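import Cfsg.Agent.Lib.Hexad22.RankThree

/-!
Recognition of the Higman–Sims group by its rank three action on 100 points.
-/

set_option autoImplicit false
set_option maxRecDepth 20000

namespace Cfsg.Agent.Hexad22

open MulAction
open scoped Pointwise

/-- Two subgroups of index two, one of them simple of order 44352000, coincide. -/
theorem eq_simple_of_card {A : Type*} [Group A] [Finite A] (hA : Nat.card A = 88704000)
    {H K : Subgroup A} (hH : IsSimpleGroup H) (hHc : Nat.card H = 44352000)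
    (hKc : Nat.card K = 44352000) : K = H := by
  have hKi : K.index = 2 := by
    have := K.card_mul_index
    rw [hKc, hA] at this
    omega
  haveI := Subgroup.normal_of_index_eq_two hKi
  rcases hH.eq_bot_or_eq_top_of_normal _ (inferInstance : (K.subgroupOf H).Normal) with h | h
  · exfalso
    have hd := Subgroup.relIndex_dvd_index_of_normal K H
    rw [Subgroup.relIndex, h, Subgroup.index_bot, hHc, hKi] at hd
    norm_num at hd
  · exact (Subgroup.eq_of_le_of_card_ge (Subgroup.subgroupOf_eq_top.1 h) (by rw [hKc, hHc])).symm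

/-- The group is isomorphic to the simple subgroup of the automorphism group of the hexad graph. -/
theorem nonempty_equiv_simple {G : Type*} [Group G] {Ω : Type*} [Fintype Ω] [DecidableEq Ω]
    [MulAction G Ω] [FaithfulSMul G Ω] [IsPretransitive G Ω] (hΩ : Fintype.card Ω = 100) (a b c : Ω)
    (hstab : Nat.card (stabilizer G a) = 443520)
    (hb : (orbit (stabilizer G a) b).ncard = 22) (hc : (orbit (stabilizer G a) c).ncard = 77)
    {H : Subgroup (Cfsg.pointBlockGraph hexads ≃g Cfsg.pointBlockGraph hexads)} (hH : Cfsg.IsHS H) :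
    Nonempty (G ≃* H) := by
  classical
  haveI : Fintype hexads := Fintype.ofFinite _
  haveI : Finite (Cfsg.pointBlockGraph hexads ≃g Cfsg.pointBlockGraph hexads) :=
    Finite.of_injective _ (permHom_injective _)
  obtain ⟨Γ, _, hsrg, hinv⟩ := exists_srg (G := G) hΩ a b c hb hc
  obtain ⟨v⟩ : Nonempty Ω := ⟨a⟩
  obtain ⟨φ, -⟩ := exists_pbg_iso hsrg v
  obtain ⟨e, he⟩ := exists_iso_22 (card_Nbr hsrg v) card_pt22 (nbrBlock_steiner hsrg v) hexads_steiner
  set Φ : Γ ≃g Cfsg.pointBlockGraph hexads := φ.symm.trans (mapIso e he) with hΦ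
  let f : G →* (Cfsg.pointBlockGraph hexads ≃g Cfsg.pointBlockGraph hexads) :=
    { toFun := fun g => (Φ.symm.trans ⟨MulAction.toPerm g, fun {x y} => hinv g x y⟩).trans Φ
      map_one' := RelIso.ext fun x => by
        show Φ ((1 : G) • Φ.symm x) = x
        rw [one_smul, RelIso.apply_symm_apply]
      map_mul' := fun g h => RelIso.ext fun x => by
        show Φ ((g * h) • Φ.symm x) = Φ (g • Φ.symm (Φ (h • Φ.symm x)))
        rw [RelIso.symm_apply_apply, mul_smul] }
  have hf : Function.Injective f := by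
    intro g h e
    refine eq_of_smul_eq_smul (α := Ω) fun x => ?_
    have := DFunLike.congr_fun e (Φ x)
    change Φ (g • Φ.symm (Φ x)) = Φ (h • Φ.symm (Φ x)) at this
    rw [RelIso.symm_apply_apply] at this
    exact Φ.injective this
  haveI : Finite G := Finite.of_injective f hf
  have hG : Nat.card G = 44352000 := by
    have := (stabilizer G a).card_mul_index
    rw [index_stabilizer, orbit_eq_univ, Set.ncard_univ, Nat.card_eq_fintype_card (α := Ω), hΩ,
      hstab] at this
    omega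
  have hrange : f.range = H := eq_simple_of_card
    (card_graphAut (α := Pt22) card_pt22 hexads_steiner) hH.1 hH.2
    (by rw [← hG]; exact (Nat.card_congr (MonoidHom.ofInjective hf).toEquiv).symm)
  exact ⟨(MonoidHom.ofInjective hf).trans (MulEquiv.subgroupCongr hrange)⟩

open Cfsg Cfsg.Spor in
/-- `HS` is the joint stabiliser of the two standard vectors of norm 48. -/
theorem nonempty_hs_equiv : Nonempty (Leech.hsGrp ≃* HS) := by
  set w : leechLattice := -(leechV + leechU') with hw
  have h1 : sqNorm (leechV : GolayPt → ℤ) = 48 := by decide +kernel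
  have h2 : sqNorm (w : GolayPt → ℤ) = 48 := by decide +kernel
  have h3 : dotInt (leechV : GolayPt → ℤ) (w : GolayPt → ℤ) = -32 := by decide +kernel
  obtain ⟨k, k1, k2⟩ := Leech.hs_normal h1 h2 h3
  clear_value w
  have hHS : (stabilizer Co0 leechV ⊓ stabilizer Co0 w).map Co0.subtype = HS := by
    ext σ
    simp only [Subgroup.mem_map, Subgroup.mem_inf, mem_stabilizer_iff, HS, Co3]
    constructor
    · rintro ⟨g, ⟨g1, g2⟩, rfl⟩
      have hU : g • leechU' = leechU' := by
        have e : leechU' = -w + -leechV := by rw [hw]; abel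
        rw [e, Leech.co0_add, Leech.co0_neg, Leech.co0_neg, g1, g2]
      exact ⟨⟨g.2, g1⟩, hU⟩
    · rintro ⟨⟨h0, h1'⟩, h2'⟩
      refine ⟨⟨σ, h0⟩, ⟨h1', ?_⟩, rfl⟩
      have a1 : (⟨σ, h0⟩ : Co0) • leechV = leechV := h1'
      have a2 : (⟨σ, h0⟩ : Co0) • leechU' = leechU' := h2'
      rw [hw, Leech.co0_neg, Leech.co0_add, a1, a2]
  exact ⟨((Leech.stabPairEquiv k k1 k2).symm.trans
    (Subgroup.equivMapOfInjective _ Co0.subtype Co0.subtype_injective)).trans
    (MulEquiv.subgroupCongr hHS)⟩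

/-- Recognition. -/
theorem isoHS_of_rank_three {G : Type*} [Group G] {Ω : Type*} [Fintype Ω] [DecidableEq Ω]
    [MulAction G Ω] [FaithfulSMul G Ω] [IsPretransitive G Ω] (hΩ : Fintype.card Ω = 100) (a b c : Ω)
    (hstab : Nat.card (stabilizer G a) = 443520)
    (hb : (orbit (stabilizer G a) b).ncard = 22) (hc : (orbit (stabilizer G a) c).ncard = 77) :
    Cfsg.Spor.IsoHS G := by
  classical
  obtain ⟨H, hH⟩ := exists_simple
  obtain ⟨e1⟩ := nonempty_equiv_simple hΩ a b c hstab hb hc hH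
  haveI : Fintype Leech.HSPoint := Fintype.ofFinite _
  haveI : IsPretransitive Leech.hsGrp Leech.HSPoint := ⟨fun y z => by
    obtain ⟨g, rfl⟩ := Leech.hs_exists_smul y
    obtain ⟨h, rfl⟩ := Leech.hs_exists_smul z
    exact ⟨h * g⁻¹, by rw [mul_smul, inv_smul_smul]⟩⟩
  obtain ⟨c1, c2, c3⟩ := Leech.hs_suborbits_base
  obtain ⟨b', c', hb', hc'⟩ :
      ∃ b' c', (orbit (stabilizer Leech.hsGrp Leech.ptV) b').ncard = 22 ∧
        (orbit (stabilizer Leech.hsGrp Leech.ptV) c').ncard = 77 := by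
    have key : ∀ (P : Set Cfsg.leechLattice) (n : ℕ), P.ncard = n → 0 < n →
        P ⊆ Cfsg.Agent.Leech.hsSet Leech.baseU Leech.baseW →
        (∀ y ∈ P, y ≠ Leech.baseV) →
        (∀ (g : Leech.hsGrp) (y : Leech.HSPoint), g • Leech.ptV = Leech.ptV →
          (y : Cfsg.leechLattice) ∈ P → ((g • y : Leech.HSPoint) : Cfsg.leechLattice) ∈ P) →
        (∀ y ∈ P, ∀ y' ∈ P, ∃ g : Cfsg.Co0, g • Leech.baseU = Leech.baseU ∧
          g • Leech.baseW = Leech.baseW ∧ g • Leech.baseV = Leech.baseV ∧ g • y = y') →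
        ∃ y : Leech.HSPoint, (orbit (stabilizer Leech.hsGrp Leech.ptV) y).ncard = n := by
      intro P n hn hpos hP hne hinv htr
      obtain ⟨y0, hy0⟩ := Set.nonempty_of_ncard_ne_zero (s := P) (by omega)
      refine ⟨⟨y0, hP hy0⟩, ?_⟩
      rw [← hn]
      refine Set.ncard_congr (fun y _ => (y : Cfsg.leechLattice)) ?_ (fun _ _ _ _ e => Subtype.ext e) ?_
      · rintro _ ⟨⟨g, hg⟩, rfl⟩
        exact hinv g _ hg hy0
      · intro z hz
        obtain ⟨g, g1, g2, g3, g4⟩ := htr y0 hy0 z hz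
        exact ⟨⟨z, hP hz⟩, ⟨⟨⟨g, mem_stabilizer_iff.2 g1, mem_stabilizer_iff.2 g2⟩,
          mem_stabilizer_iff.2 (Subtype.ext g3)⟩, Subtype.ext g4⟩, rfl⟩
    have hdot : ∀ (g : Leech.hsGrp) (y : Leech.HSPoint), g • Leech.ptV = Leech.ptV →
        Cfsg.dotInt (Leech.baseV : Cfsg.GolayPt → ℤ) ((g • y : Leech.HSPoint) : Cfsg.leechLattice) =
          Cfsg.dotInt (Leech.baseV : Cfsg.GolayPt → ℤ) (y : Cfsg.leechLattice) := by
      intro g y hg
      have hV : (g : Cfsg.Co0) • Leech.baseV = Leech.baseV := congrArg Subtype.val hg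
      rw [Leech.hs_smul_val]
      conv_lhs => rw [← hV]
      exact Leech.co0_dot (g : Cfsg.Co0) _ _
    have hV0 : Cfsg.dotInt (Leech.baseV : Cfsg.GolayPt → ℤ) (Leech.baseV : Cfsg.GolayPt → ℤ) ≠ 8 := by
      decide +kernel
    obtain ⟨b', hb'⟩ := key (Leech.hsNearSet Leech.baseU Leech.baseW Leech.baseV) 22 c1 (by norm_num)
      (fun _ h => h.1) (fun y hy e => hV0 (by
        have h := hy.2
        rwa [e] at h))
      (fun g y hg hy => ⟨(g • y).2, (hdot g y hg).trans hy.2⟩)
      fun y hy y' hy' => c3 y y' hy.1 hy'.1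
        (fun e => hV0 (by have h := hy.2; rwa [e] at h)) (fun e => hV0 (by have h := hy'.2; rwa [e] at h))
        ⟨fun _ => hy'.2, fun _ => hy.2⟩
    obtain ⟨c', hc'⟩ := key (Leech.hsFarSet Leech.baseU Leech.baseW Leech.baseV) 77 c2 (by norm_num)
      (fun _ h => h.1) (fun y hy => hy.2.1)
      (fun g y hg hy => ⟨(g • y).2, fun e => hy.2.1 (congrArg Subtype.val
          (MulAction.injective g ((Subtype.ext e : g • y = Leech.ptV).trans hg.symm))),
        fun h => hy.2.2 ((hdot g y hg).symm.trans h)⟩)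
      fun y hy y' hy' => c3 y y' hy.1 hy'.1 hy.2.1 hy'.2.1
        ⟨fun h => absurd h hy.2.2, fun h => absurd h hy'.2.2⟩
    exact ⟨b', c', hb', hc'⟩
  have hstab' : Nat.card (stabilizer Leech.hsGrp Leech.ptV) = 443520 :=
    (Nat.card_congr (MulEquiv.ofBijective Leech.m22Hom Leech.m22Hom_bijective).toEquiv).symm.trans
      Mathieu.card_M22
  obtain ⟨e2⟩ := nonempty_equiv_simple (G := Leech.hsGrp) (Ω := Leech.HSPoint)
    (Nat.card_eq_fintype_card.symm.trans Leech.card_HSPoint) Leech.ptV b' c' hstab' hb' hc' hH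
  obtain ⟨e3⟩ := nonempty_hs_equiv
  exact ⟨e1.trans (e2.symm.trans e3)⟩

end Cfsg.Agent.Hexad22
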