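import Cfsg.Agent.Lib.Hexad22.Model
import Cfsg.Agent.Lib.Steiner.Counting

/-!
Every S(3,6,22) is the plane of order 4 with one point added to each line, together with the 56
hyperovals meeting a given one in an even number of points.
-/

set_option autoImplicit false

namespace Cfsg.Agent.Hexad22

open Finset PlaneFour

/-! ### Derived systems -/

section Derived

variable {γ : Type*} [DecidableEq γ]

/-- The blocks through `D`, on the points outside `D`. -/
def derivedSys (B : Set (Finset γ)) (D : Finset γ) : Set (Finset {x : γ // x ∉ D}) :=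
  {l | D ∪ l.map (Function.Embedding.subtype _) ∈ B}

theorem card_derived_block {D : Finset γ} (l : Finset {x : γ // x ∉ D}) :
    (D ∪ l.map (Function.Embedding.subtype _)).card = D.card + l.card := by
  rw [card_union_of_disjoint, card_map]
  refine disjoint_left.2 fun x hx hx' => ?_
  obtain ⟨y, -, rfl⟩ := mem_map.1 hx'
  exact y.2 hx

theorem union_subtype {D b : Finset γ} (h : D ⊆ b) :
    D ∪ (b.subtype fun x => x ∉ D).map (Function.Embedding.subtype _) = b := by
  rw [subtype_map]
  ext x
  simp only [mem_union, mem_filter]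
  constructor
  · rintro (hx | hx)
    exacts [h hx, hx.1]
  · intro hx
    by_cases hD : x ∈ D
    exacts [Or.inl hD, Or.inr ⟨hx, hD⟩]

theorem derived_steiner {B : Set (Finset γ)} {D : Finset γ} {t k : ℕ} (hDk : D.card ≤ k)
    (hDt : D.card ≤ t) (hB : Cfsg.IsSteinerSystem t k B) :
    Cfsg.IsSteinerSystem (t - D.card) (k - D.card) (derivedSys B D) := by
  refine ⟨fun l hl => ?_, fun s hs => ?_⟩
  · have := hB.1 _ hl
    rw [card_derived_block] at this
    omega
  · obtain ⟨b, ⟨hb, hsub⟩, hu⟩ := hB.2 (D ∪ s.map (Function.Embedding.subtype _))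
      (by rw [card_derived_block, hs]; omega)
    have hD : D ⊆ b := subset_union_left.trans hsub
    refine ⟨b.subtype fun x => x ∉ D, ⟨by simp only [derivedSys, Set.mem_ofPred_eq, union_subtype hD]; exact hb,
      fun x hx => mem_subtype.2 (hsub (mem_union_right _ (mem_map_of_mem _ hx)))⟩, ?_⟩
    rintro l ⟨hl, hsl⟩
    have e := hu _ ⟨hl, union_subset_union_right (map_subset_map.2 hsl)⟩
    ext x
    rw [mem_subtype, ← e, mem_union, mem_map]
    constructor
    · exact fun hx => Or.inr ⟨x, hx, rfl⟩
    · rintro (hx | ⟨y, hy, h⟩)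
      · exact absurd hx x.2
      · rwa [← Subtype.ext (a1 := y) (a2 := x) h]

theorem card_points_derived [Fintype γ] (D : Finset γ) :
    Fintype.card {x : γ // x ∉ D} = Fintype.card γ - D.card := by
  rw [Fintype.card_subtype_compl, Fintype.card_coe]

theorem mem_derived_iff {B : Set (Finset γ)} {D b : Finset γ} (h : D ⊆ b) :
    (b.subtype fun x => x ∉ D) ∈ derivedSys B D ↔ b ∈ B := by
  simp only [derivedSys, Set.mem_ofPred_eq, union_subtype h]

end Derived

/-! ### The model -/

theorem pts_inter (l m : ℕ) : pts (l &&& m) = pts l ∩ pts m := by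
  ext x; simp [pts, Nat.testBit_and]

theorem card_pts (m : ℕ) : (pts m).card = bits m := by
  have : bits m = ((Finset.range 21).filter fun i => m.testBit i).card := by
    simp only [bits, Finset.card_def, Finset.filter_val, Finset.range_val, Multiset.range,
      Multiset.filter_coe, Multiset.coe_card, Bool.decide_eq_true]
  rw [this]
  refine card_bij (fun x _ => (finSumFinEquiv x : Fin (6 + 15)).val) (fun x hx => ?_)
    (fun x _ y _ h => finSumFinEquiv.injective (Fin.ext h)) fun i hi => ?_
  · simp only [pts, mem_filter, mem_univ, true_and] at hx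
    exact mem_filter.2 ⟨mem_range.2 (finSumFinEquiv x).isLt, hx⟩
  · rw [mem_filter, mem_range] at hi
    refine ⟨finSumFinEquiv.symm ⟨i, hi.1⟩, ?_, by simp⟩
    simp [pts, hi.2]

theorem pts_injOn {m m' : ℕ} (hm : m < 2 ^ 21) (hm' : m' < 2 ^ 21) (h : pts m = pts m') : m = m' := by
  refine Nat.eq_of_testBit_eq fun i => ?_
  by_cases hi : i < 21
  · have := congrArg (fun s : Finset ModelPt =>
      decide (finSumFinEquiv.symm (⟨i, hi⟩ : Fin (6 + 15)) ∈ s)) h
    simpa [pts] using this
  · have h21 : 2 ^ 21 ≤ 2 ^ i := Nat.pow_le_pow_right (by norm_num) (not_lt.1 hi)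
    rw [Nat.testBit_lt_two_pow (lt_of_lt_of_le hm h21),
      Nat.testBit_lt_two_pow (lt_of_lt_of_le hm' h21)]

/-- The 21 lines. -/
def lineSets : Finset (Finset ModelPt) := (secMasks ++ totMasks).toFinset.image pts

/-- The chosen hyperoval. -/
def oval : Finset ModelPt := univ.image Sum.inl

/-- The hyperovals meeting the chosen one evenly. -/
def evenOvals : Finset (Finset ModelPt) :=
  (hypMasks.filter fun m => bits (m &&& 63) % 2 == 0).toFinset.image pts

theorem pts_oval : pts 63 = oval := by decide +kernel

theorem lineSets_subset : ∀ S ∈ lineSets, S ∈ modelLines := by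
  intro S hS
  obtain ⟨m, hm, rfl⟩ := mem_image.1 hS
  rw [List.mem_toFinset, List.mem_append] at hm
  rcases hm with hm | hm
  · have hlen : secMasks.length = secPairs.length := by decide +kernel
    obtain ⟨i, hi, rfl⟩ := List.getElem_of_mem hm
    have hmem : (secMasks[i], secPairs[i]'(hlen ▸ hi)) ∈ List.zip secMasks secPairs := by
      rw [List.mem_iff_getElem]
      exact ⟨i, by simp only [List.length_zip]; omega, by simp⟩
    obtain ⟨hne, he⟩ := secant_eq _ hmem
    exact Or.inl ⟨_, _, hne, he⟩
  · obtain ⟨h5, hl, ha⟩ := tot_eq m hm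
    refine Or.inr ⟨h5, fun x hx => ?_⟩
    cases x with
    | inl i => exact absurd hx (hl i)
    | inr j =>
      refine ⟨j, rfl, fun y hy k hk hne => ?_⟩
      subst hk
      exact ha j k hx hy hne

theorem card_lineSets : lineSets.card = 21 := by
  rw [lineSets, card_image_of_injOn, List.toFinset_card_of_nodup lines_nodup]
  · rfl
  · intro a ha b hb e
    rw [mem_coe, List.mem_toFinset] at ha hb
    exact pts_injOn (masks_lt.1 a ha) (masks_lt.1 b hb) e

theorem card_evenOvals : evenOvals.card = 56 := by
  rw [evenOvals, card_image_of_injOn, List.toFinset_card_of_nodup (hyp_nodup.filter _), hyp_even]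
  intro a ha b hb e
  rw [mem_coe, List.mem_toFinset] at ha hb
  exact pts_injOn (masks_lt.2 a (List.mem_filter.1 ha).1) (masks_lt.2 b (List.mem_filter.1 hb).1) e

theorem modelLines_eq (h : Cfsg.IsSteinerSystem 2 5 modelLines) :
    modelLines = (lineSets : Set (Finset ModelPt)) := by
  symm
  refine Set.eq_of_subset_of_ncard_le (fun S hS => lineSets_subset S hS) ?_ (Set.toFinite _)
  have h1 := Steiner.card_through h (∅ : Finset ModelPt) (by simp)
  simp [filter_true_of_mem, Steiner.card_blocksF, Nat.choose] at h1
  rw [Set.ncard_coe_finset, card_lineSets]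
  omega

theorem indepSets_model (h : Cfsg.IsSteinerSystem 2 5 modelLines) :
    indepSets modelLines 6 = hypMasks.toFinset.image pts := by
  symm
  refine eq_of_subset_of_card_le (fun S hS => ?_) ?_
  · obtain ⟨m, hm, rfl⟩ := mem_image.1 hS
    rw [List.mem_toFinset] at hm
    obtain ⟨h6, h2⟩ := hyp_check m hm
    refine mem_indepSets.2 ⟨by rw [card_pts, h6], fun l hl => ?_⟩
    rw [modelLines_eq h, mem_coe, lineSets, mem_image] at hl
    obtain ⟨k, hk, rfl⟩ := hl
    rw [← pts_inter, card_pts]
    exact h2 k (List.mem_toFinset.1 hk)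
  · rw [card_hyperovals h (by simp), card_image_of_injOn, List.toFinset_card_of_nodup hyp_nodup]
    · rfl
    · intro a ha b hb e
      rw [mem_coe, List.mem_toFinset] at ha hb
      exact pts_injOn (masks_lt.2 a ha) (masks_lt.2 b hb) e

theorem mem_evenOvals (h : Cfsg.IsSteinerSystem 2 5 modelLines) {S : Finset ModelPt}
    (h6 : S.card = 6) (hi : Indep modelLines S) (he : Even (S ∩ oval).card) : S ∈ evenOvals := by
  have : S ∈ indepSets modelLines 6 := mem_indepSets.2 ⟨h6, hi⟩
  rw [indepSets_model h, mem_image] at this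
  obtain ⟨m, hm, rfl⟩ := this
  refine mem_image_of_mem _ (List.mem_toFinset.2 (List.mem_filter.2 ⟨List.mem_toFinset.1 hm, ?_⟩))
  rw [← pts_oval, ← pts_inter, card_pts] at he
  rw [beq_iff_eq]
  exact Nat.even_iff.1 he

/-- The standard system on one more point. -/
def stdBlocks : Set (Finset (Option ModelPt)) :=
  {c | (∃ l ∈ modelLines, c = insertNone l) ∨ ∃ H ∈ evenOvals, c = H.map Function.Embedding.some}

/-! ### Coordinates -/

variable {α β : Type*} [Fintype α] [DecidableEq α] [Fintype β] [DecidableEq β] {B : Set (Finset α)}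

theorem card_avoiding (hα : Fintype.card α = 22) (hB : Cfsg.IsSteinerSystem 3 6 B) (p : α) :
    ((Steiner.blocksF B).filter fun b => p ∉ b).card = 56 := by
  have h0 := Steiner.card_through hB (∅ : Finset α) (by simp)
  have h1 := Steiner.card_through hB ({p} : Finset α) (by simp)
  simp [filter_true_of_mem, hα, Nat.choose] at h0
  simp [hα, Nat.choose] at h1
  have h := card_filter_add_card_filter_not (s := Steiner.blocksF B) (fun b => p ∈ b)
  omega

/-- Coordinates with a given point in the place of the extra one. -/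
theorem exists_coords (hα : Fintype.card α = 22) (hB : Cfsg.IsSteinerSystem 3 6 B) (p : α) :
    ∃ e : Option ModelPt ≃ α, e none = p ∧ ∀ c, c ∈ stdBlocks ↔ c.image e ∈ B := by
  classical
  set D : Finset α := {p} with hD
  set L := derivedSys B D with hLdef
  have hL : Cfsg.IsSteinerSystem 2 5 L := by
    simpa [hD] using derived_steiner (D := D) (by simp [hD]) (by simp [hD]) hB
  have hcard : Fintype.card {x : α // x ∉ D} = 21 := by
    rw [card_points_derived, hα, hD, card_singleton]
  set sub := Function.Embedding.subtype fun x : α => x ∉ D with hsub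
  obtain ⟨b0, hb0⟩ := card_pos.1
    (by rw [card_avoiding hα hB p]; norm_num :
      0 < ((Steiner.blocksF B).filter fun b => p ∉ b).card)
  rw [mem_filter, Steiner.mem_blocksF] at hb0
  -- a block avoiding `p` is a hyperoval
  have hov : ∀ b ∈ B, p ∉ b → (b.subtype fun x => x ∉ D).map sub = b ∧
      (b.subtype fun x => x ∉ D).card = 6 ∧ Indep L (b.subtype fun x => x ∉ D) := by
    intro b hb hpb
    have hm : (b.subtype fun x => x ∉ D).map sub = b := by
      rw [hsub, subtype_map, filter_eq_self]
      intro x hx h
      rw [hD, mem_singleton] at h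
      exact hpb (h ▸ hx)
    refine ⟨hm, by rw [← card_map sub, hm, hB.1 b hb], fun l hl => ?_⟩
    have hne : D ∪ l.map sub ≠ b := fun e => hpb (e ▸ mem_union_left _ (by simp [hD]))
    have := Steiner.S3622_inter hα hB hl hb hne
    rw [← card_map sub, map_inter, hm]
    refine (card_le_card (inter_subset_inter_right (subset_union_right (s₁ := D)))).trans ?_
    rcases this with h | h <;> exact le_of_eq_of_le h (by norm_num)
  obtain ⟨hm0, h60, hi0⟩ := hov b0 hb0.1 hb0.2
  let ε := ((b0.subtype fun x => x ∉ D).equivFinOfCardEq h60).symm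
  let ι : Fin 6 → {x : α // x ∉ D} := fun i => (ε i : {x : α // x ∉ D})
  have hι : Function.Injective ι := Subtype.val_injective.comp ε.injective
  have himι : univ.image ι = b0.subtype fun x => x ∉ D := by
    refine eq_of_subset_of_card_le (fun x hx => ?_) ?_
    · obtain ⟨i, -, rfl⟩ := mem_image.1 hx
      exact (ε i).2
    · rw [h60, card_image_of_injective _ hι, card_univ, Fintype.card_fin]
  obtain ⟨f, hf, hfL⟩ := exists_model_iso hcard hL ι hι (himι.symm ▸ hi0)
  have hmem : ∀ S, S ∈ modelLines ↔ S.image f ∈ L := fun S => by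
    rw [← hfL]
    exact ((Finset.image_injective f.injective).mem_set_image).symm
  have hM : Cfsg.IsSteinerSystem 2 5 modelLines := by
    refine ⟨fun S hS => ?_, fun s hs => ?_⟩
    · rw [← hL.1 _ ((hmem S).1 hS), card_image_of_injective _ f.injective]
    · obtain ⟨l, ⟨hl, hsl⟩, hu⟩ := hL.2 (s.image f) (by rw [card_image_of_injective _ f.injective, hs])
      refine ⟨l.image f.symm, ⟨(hmem _).2 (by rw [image_image]; simpa using hl), ?_⟩, ?_⟩
      · intro x hx
        exact mem_image.2 ⟨f x, hsl (mem_image_of_mem _ hx), f.symm_apply_apply x⟩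
      · rintro S ⟨hS, hsS⟩
        rw [← hu _ ⟨(hmem S).1 hS, image_subset_image hsS⟩, image_image]
        simp
  have hoval : (oval.image f).map sub = b0 := by
    rw [oval, image_image]
    have : univ.image (⇑f ∘ Sum.inl) = univ.image ι := image_congr fun i _ => hf i
    rw [this, himι, hm0]
  let j : ModelPt ↪ α := f.toEmbedding.trans sub
  have hpD : ∀ y : α, y ∈ D ↔ y = p := fun y => by simp [hD]
  have hjp : ∀ x, j x ≠ p := fun x h => (f x).2 ((hpD _).2 h)
  have himg : ∀ S : Finset ModelPt, (S.image f).map sub = S.map j := fun S => by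
    rw [map_eq_image, map_eq_image, image_image]; rfl
  let e0 : Option ModelPt → α := fun o => o.elim p j
  have he0 : Function.Bijective e0 := by
    refine (Fintype.bijective_iff_injective_and_card _).2 ⟨?_, by simp [hα]⟩
    rintro (_ | x) (_ | y) h
    · rfl
    · exact absurd h.symm (hjp y)
    · exact absurd h (hjp x)
    · exact congrArg some (j.injective h)
  set e := Equiv.ofBijective e0 he0
  have hnone : ∀ l : Finset ModelPt, (insertNone l).image e = D ∪ (l.image f).map sub := by
    intro l
    ext y
    simp only [mem_image, mem_union, hD, mem_singleton, himg, mem_map]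
    constructor
    · rintro ⟨_ | x, hx, rfl⟩
      · exact Or.inl rfl
      · exact Or.inr ⟨x, Finset.some_mem_insertNone.1 hx, rfl⟩
    · rintro (rfl | ⟨x, hx, rfl⟩)
      · exact ⟨none, by simp, rfl⟩
      · exact ⟨some x, Finset.some_mem_insertNone.2 hx, rfl⟩
  have hsome : ∀ S : Finset ModelPt, (S.map Function.Embedding.some).image e = S.map j := by
    intro S
    rw [map_eq_image, map_eq_image, image_image]
    rfl
  -- the even hyperovals give exactly the blocks avoiding `p`
  have hsub56 : ((Steiner.blocksF B).filter fun b => p ∉ b) ⊆ evenOvals.image fun S => S.map j := by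
    intro b hb
    rw [mem_filter, Steiner.mem_blocksF] at hb
    obtain ⟨hmb, h6, hi⟩ := hov b hb.1 hb.2
    set S := (b.subtype fun x => x ∉ D).image f.symm with hS
    have hSf : S.image f = b.subtype fun x => x ∉ D := by rw [hS, image_image]; simp
    have hSj : S.map j = b := by rw [← himg, hSf, hmb]
    refine mem_image.2 ⟨S, mem_evenOvals hM ?_ (fun l hl => ?_) ?_, hSj⟩
    · rw [← card_map j, hSj, hB.1 b hb.1]
    · have := hi _ ((hmem l).1 hl)
      rwa [← hSf, ← image_inter _ _ f.injective, card_image_of_injective _ f.injective] at this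
    · rw [← card_map j, map_inter, hSj, ← himg oval, hoval]
      rcases eq_or_ne b b0 with h | h
      · rw [h, inter_self, hB.1 b0 hb0.1]; decide
      · rcases Steiner.S3622_inter hα hB hb.1 hb0.1 h with h' | h' <;> rw [h'] <;> decide
  have h56 : ((Steiner.blocksF B).filter fun b => p ∉ b) = evenOvals.image fun S => S.map j :=
    eq_of_subset_of_card_le hsub56 (by
      rw [card_avoiding hα hB p]
      exact card_image_le.trans card_evenOvals.le)
  refine ⟨e, rfl, fun c => ⟨?_, fun hc => ?_⟩⟩
  · rintro (⟨l, hl, rfl⟩ | ⟨S, hS, rfl⟩)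
    · rw [hnone]; exact (hmem l).1 hl
    · rw [hsome]
      have := (h56.symm ▸ mem_image_of_mem (fun S : Finset ModelPt => S.map j) hS :
        S.map j ∈ (Steiner.blocksF B).filter fun b => p ∉ b)
      exact Steiner.mem_blocksF.1 (mem_filter.1 this).1
  · by_cases hp : p ∈ c.image e
    · have hDc : D ⊆ c.image e := by rw [hD, singleton_subset_iff]; exact hp
      refine Or.inl ⟨((c.image e).subtype fun x => x ∉ D).image f.symm, (hmem _).2 ?_, ?_⟩
      · rw [image_image]
        simpa [hLdef] using (mem_derived_iff hDc).2 hc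
      · refine Finset.image_injective e.injective ?_
        rw [hnone, image_image, Equiv.self_comp_symm, image_id, union_subtype hDc]
    · have : c.image e ∈ (Steiner.blocksF B).filter fun b => p ∉ b :=
        mem_filter.2 ⟨Steiner.mem_blocksF.2 hc, hp⟩
      rw [h56, mem_image] at this
      obtain ⟨S, hS, he⟩ := this
      exact Or.inr ⟨S, hS, Finset.image_injective e.injective (he.symm.trans (hsome S).symm)⟩

/-- Any two Steiner systems S(3,6,22) are isomorphic. -/
theorem exists_iso_22 {B' : Set (Finset β)} (hα : Fintype.card α = 22) (hβ : Fintype.card β = 22)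
    (hB : Cfsg.IsSteinerSystem 3 6 B) (hB' : Cfsg.IsSteinerSystem 3 6 B') :
    ∃ e : α ≃ β, ∀ b : Finset α, b ∈ B ↔ b.image e ∈ B' := by
  obtain ⟨p⟩ : Nonempty α := Fintype.card_pos_iff.1 (by omega)
  obtain ⟨q⟩ : Nonempty β := Fintype.card_pos_iff.1 (by omega)
  obtain ⟨e, -, he⟩ := exists_coords hα hB p
  obtain ⟨e', -, he'⟩ := exists_coords hβ hB' q
  refine ⟨e.symm.trans e', fun b => ?_⟩
  have h1 : (b.image e.symm).image e = b := by rw [image_image]; simp
  conv_lhs => rw [← h1, ← he, he', image_image]
  rfl

end Cfsg.Agent.Hexad22
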