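import Cfsg.Agent.Lib.Hexad22.Main
import Cfsg.Agent.Lib.GolayUnique.Transport
import Cfsg.Agent.Lib.Mathieu.Simple
import Cfsg.Agent.S5628
import Cfsg.Prelude.Def_Sporadic

/-!
The automorphism group of an S(3,6,22): order 887040, 3-transitive, with M22 of index two.
-/

set_option autoImplicit false

namespace Cfsg.Agent.Hexad22

open Finset
open scoped Pointwise

variable {α : Type*} [Fintype α] [DecidableEq α] {B : Set (Finset α)}

theorem card_le_orbit_mul {G X : Type*} [Group G] [Finite G] [MulAction G X] (x : X) :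
    Nat.card G = (MulAction.orbit G x).ncard * Nat.card (MulAction.stabilizer G x) := by
  rw [← MulAction.index_stabilizer, mul_comm, Subgroup.card_mul_index]

/-- An automorphism fixing a point and a block avoiding it pointwise is trivial. -/
theorem aut_eq_one (hα : Fintype.card α = 22) (hB : Cfsg.IsSteinerSystem 3 6 B) {p : α}
    {b0 : Finset α} (hb0 : b0 ∈ B) (hpb : p ∉ b0) {σ : Equiv.Perm α}
    (hσ : σ ∈ Cfsg.setSystemAut B) (hp : σ p = p) (hfix : ∀ x ∈ b0, σ x = x) : σ = 1 := by
  classical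
  set D : Finset α := {p} with hD
  have hpD : ∀ y : α, y ∈ D ↔ y = p := fun y => by simp [hD]
  have hL : Cfsg.IsSteinerSystem 2 5 (derivedSys B D) := by
    simpa [hD] using derived_steiner (D := D) (by simp [hD]) (by simp [hD]) hB
  have hcard : Fintype.card {x : α // x ∉ D} = 21 := by
    rw [card_points_derived, hα, hD, card_singleton]
  have hσD : ∀ y, σ y ∉ D ↔ y ∉ D := fun y => by
    rw [hpD, hpD]
    exact ⟨fun h e => h (by rw [e, hp]), fun h e => h (σ.injective (e.trans hp.symm))⟩
  set τ : Equiv.Perm {x : α // x ∉ D} := σ.subtypePerm hσD with hτdef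
  have hval : ∀ y : {x : α // x ∉ D}, (τ y : α) = σ y := fun y => rfl
  have hτ : τ ∈ Cfsg.setSystemAut (derivedSys B D) := by
    rw [GolayUnique.mem_setSystemAut_iff]
    intro l
    have : (D ∪ l.map (Function.Embedding.subtype _)).image σ =
        D ∪ (l.image τ).map (Function.Embedding.subtype _) := by
      rw [image_union, map_eq_image, map_eq_image, image_image, image_image]
      congr 1
      simp [hD, hp]
    simp only [derivedSys, Set.mem_ofPred_eq, ← this]
    exact (GolayUnique.mem_setSystemAut_iff.1 hσ) _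
  set H := b0.subtype fun x => x ∉ D with hH
  have hHmap : H.map (Function.Embedding.subtype _) = b0 := by
    rw [hH, subtype_map, filter_eq_self]
    exact fun x hx h => hpb ((hpD x).1 h ▸ hx)
  have hHcond : H.card = 6 ∧ ∀ l ∈ derivedSys B D, (l ∩ H).card ≤ 2 := by
    refine ⟨by rw [← card_map (Function.Embedding.subtype fun x : α => x ∉ D), hHmap, hB.1 b0 hb0],
      fun l hl => ?_⟩
    have hne : D ∪ l.map (Function.Embedding.subtype _) ≠ b0 :=
      fun e => hpb (e ▸ mem_union_left _ (by simp [hD]))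
    rw [← card_map (Function.Embedding.subtype fun x : α => x ∉ D), map_inter, hHmap]
    refine (card_le_card (inter_subset_inter_right (subset_union_right (s₁ := D)))).trans ?_
    rcases Steiner.S3622_inter hα hB hl hb0 hne with h | h <;> exact le_of_eq_of_le h (by norm_num)
  obtain ⟨g, -, huniq⟩ := S5628.result hcard (derivedSys B D) hL H hHcond 1
  have e1 : τ = g := huniq τ ⟨hτ, fun q => Subtype.ext (hfix _ (mem_subtype.1 q.2))⟩
  have e2 : 1 = g := huniq 1 ⟨one_mem _, fun q => rfl⟩
  refine Equiv.ext fun y => ?_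
  by_cases hy : y = p
  · rw [hy, hp]; rfl
  · have := congrArg Subtype.val (Equiv.ext_iff.1 (e1.trans e2.symm) ⟨y, fun h => hy ((hpD y).1 h)⟩)
    exact this

/-- At most `22 * 56 * 720` automorphisms. -/
theorem card_aut_le (hα : Fintype.card α = 22) (hB : Cfsg.IsSteinerSystem 3 6 B) :
    Nat.card (Cfsg.setSystemAut B) ≤ 887040 := by
  classical
  obtain ⟨p⟩ : Nonempty α := Fintype.card_pos_iff.1 (by omega)
  obtain ⟨b0, hb0⟩ := card_pos.1
    (by rw [card_avoiding hα hB p]; norm_num :
      0 < ((Steiner.blocksF B).filter fun b => p ∉ b).card)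
  rw [mem_filter, Steiner.mem_blocksF] at hb0
  set G := Cfsg.setSystemAut B with hG
  set G1 := MulAction.stabilizer G p with hG1
  set G2 := MulAction.stabilizer G1 b0 with hG2
  have h1 : (MulAction.orbit G p).ncard ≤ 22 :=
    (Set.ncard_le_card _).trans (by rw [Nat.card_eq_fintype_card, hα])
  have h2 : (MulAction.orbit G1 b0).ncard ≤ 56 := by
    rw [← card_avoiding hα hB p, ← Set.ncard_coe_finset]
    refine Set.ncard_le_ncard ?_ (Set.toFinite _)
    rintro _ ⟨σ, rfl⟩
    rw [mem_coe, mem_filter, Steiner.mem_blocksF]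
    refine ⟨((GolayUnique.mem_setSystemAut_iff.1 σ.1.2) b0).2 hb0.1, fun hp => ?_⟩
    obtain ⟨x, hx, hxp⟩ := mem_image.1 (show p ∈ b0.image (σ.1.1 : Equiv.Perm α) from hp)
    have hfix : (σ.1.1 : Equiv.Perm α) p = p := σ.2
    exact hb0.2 (σ.1.1.injective (hxp.trans hfix.symm) ▸ hx)
  have hmap : ∀ σ : G2, ∀ x, (σ.1.1.1 : Equiv.Perm α) x ∈ b0 ↔ x ∈ b0 := fun σ x => by
    have he : b0.image (σ.1.1.1 : Equiv.Perm α) = b0 := σ.2
    conv_lhs => rw [← he]
    exact σ.1.1.1.injective.mem_finset_image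
  have h3 : Nat.card G2 ≤ 720 := by
    have hinj : Function.Injective fun σ : G2 =>
        (σ.1.1.1.subtypePerm (hmap σ) : Equiv.Perm {x // x ∈ b0}) := by
      intro σ τ h
      have key : σ.1.1.1⁻¹ * τ.1.1.1 = 1 := by
        refine aut_eq_one hα hB hb0.1 hb0.2 (mul_mem (inv_mem σ.1.1.2) τ.1.1.2) ?_ fun x hx => ?_
        · have a : σ.1.1.1 p = p := σ.1.2
          have b : τ.1.1.1 p = p := τ.1.2
          rw [Equiv.Perm.mul_apply, b, Equiv.Perm.inv_eq_iff_eq, a]
        · have := congrArg Subtype.val (Equiv.ext_iff.1 h ⟨x, hx⟩)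
          rw [Equiv.Perm.mul_apply, Equiv.Perm.inv_eq_iff_eq]
          exact this.symm
      exact Subtype.ext (Subtype.ext (Subtype.ext (inv_mul_eq_one.1 key)))
    refine (Nat.card_le_card_of_injective _ hinj).trans ?_
    rw [Nat.card_perm, Nat.card_eq_fintype_card, Fintype.card_coe, hB.1 b0 hb0.1]
    decide
  rw [card_le_orbit_mul (G := G) p, card_le_orbit_mul (G := G1) b0]
  exact (Nat.mul_le_mul h1 (Nat.mul_le_mul h2 h3)).trans (by norm_num)

/-! ### The concrete system -/

/-- The two removed points. -/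
def twoPts : Finset Cfsg.GolayPt := {none, some 0}

/-- The 22 remaining points. -/
abbrev Pt22 : Type := {x : Cfsg.GolayPt // x ∉ twoPts}

/-- The octads through the two points, on the other 22. -/
def hexads : Set (Finset Pt22) := derivedSys Cfsg.octads twoPts

theorem mem_twoPts {x : Cfsg.GolayPt} : x ∈ twoPts ↔ x = none ∨ x = some 0 := by simp [twoPts]

theorem card_pt22 : Fintype.card Pt22 = 22 := by
  rw [card_points_derived, GolayUnique.card_golayPt]
  rfl

theorem hexads_steiner : Cfsg.IsSteinerSystem 3 6 hexads := by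
  have h : twoPts.card = 2 := rfl
  have hd := derived_steiner (D := twoPts) (by simp [h]) (by simp [h]) Mathieu.octads_steiner
  rw [h] at hd
  exact hd

/-- The setwise stabiliser of the two points. -/
def pairStab : Subgroup (Equiv.Perm Cfsg.GolayPt) :=
  Cfsg.setSystemAut Cfsg.octads ⊓ MulAction.stabilizer (Equiv.Perm Cfsg.GolayPt) twoPts

theorem pairStab_maps (g : pairStab) (x : Cfsg.GolayPt) : g.1 x ∉ twoPts ↔ x ∉ twoPts := by
  have he : twoPts.image g.1 = twoPts := g.2.2
  conv_lhs => rw [← he]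
  rw [g.1.injective.mem_finset_image]

theorem pairStab_restrict_mem (g : pairStab) :
    (g.1.subtypePerm (pairStab_maps g) : Equiv.Perm Pt22) ∈ Cfsg.setSystemAut hexads := by
  rw [GolayUnique.mem_setSystemAut_iff]
  intro l
  have he : twoPts.image g.1 = twoPts := g.2.2
  have : (twoPts ∪ l.map (Function.Embedding.subtype _)).image g.1 =
      twoPts ∪ (l.image (g.1.subtypePerm (pairStab_maps g))).map (Function.Embedding.subtype _) := by
    rw [image_union, he, map_eq_image, map_eq_image, image_image, image_image]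
    rfl
  simp only [hexads, derivedSys, Set.mem_ofPred_eq, ← this]
  exact GolayUnique.mem_setSystemAut_iff.1 g.2.1 _

/-- Restriction to the 22 points. -/
def restrictHom : pairStab →* Cfsg.setSystemAut hexads where
  toFun g := ⟨g.1.subtypePerm (pairStab_maps g), pairStab_restrict_mem g⟩
  map_one' := Subtype.ext (Equiv.ext fun _ => rfl)
  map_mul' _ _ := Subtype.ext (Equiv.ext fun _ => rfl)

theorem M22_le_pairStab : Cfsg.Spor.M22 ≤ pairStab := by
  intro g hg
  obtain ⟨h24, h0, h1⟩ := Mathieu.mem_M22_iff.1 hg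
  refine ⟨Mathieu.M24_eq_setSystemAut_octads ▸ h24, ?_⟩
  exact Mathieu.smul_eq_of_fixed fun x hx => by
    rcases mem_twoPts.1 hx with rfl | rfl <;> assumption

theorem not_mem_of_transposition {g : Equiv.Perm Cfsg.GolayPt} {p q : Cfsg.GolayPt}
    (hpq : p ≠ q) (hp : g p = q) (hfix : ∀ x, x ≠ p → x ≠ q → g x = x) :
    g ∉ Cfsg.setSystemAut Cfsg.octads := by
  classical
  intro hg
  have hO := Mathieu.octads_steiner
  -- an octad through `p` avoiding `q`
  obtain ⟨o, ho, hpo, hqo⟩ : ∃ o ∈ Cfsg.octads, p ∈ o ∧ q ∉ o := by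
    obtain ⟨s, hps, hs, hs5⟩ := exists_subsuperset_card_eq (s := ({p} : Finset Cfsg.GolayPt))
      (t := univ.erase q) (n := 5) (by simp [hpq]) (by simp)
      (by rw [card_erase_of_mem (mem_univ q), card_univ, GolayUnique.card_golayPt]; norm_num)
    obtain ⟨o, ⟨ho, hso⟩, -⟩ := hO.2 s hs5
    have hpo : p ∈ o := hso (hps (mem_singleton_self p))
    by_cases hqo : q ∈ o
    swap
    · exact ⟨o, ho, hpo, hqo⟩
    obtain ⟨x, hx⟩ : oᶜ.Nonempty := card_pos.1 (by
      rw [card_compl, GolayUnique.card_golayPt, hO.1 o ho]; norm_num)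
    rw [mem_compl] at hx
    obtain ⟨u, hpu, hu, hu4⟩ := exists_subsuperset_card_eq (s := ({p} : Finset Cfsg.GolayPt))
      (t := o.erase q) (n := 4) (by simp [hpq, hpo]) (by simp)
      (by rw [card_erase_of_mem hqo, hO.1 o ho]; norm_num)
    have hxu : x ∉ u := fun h => hx (mem_of_mem_erase (hu h))
    obtain ⟨o', ⟨ho', huo⟩, -⟩ := hO.2 (insert x u) (by rw [card_insert_of_notMem hxu, hu4])
    refine ⟨o', ho', huo (mem_insert_of_mem (hpu (mem_singleton_self p))), fun hq => ?_⟩
    have hqu : q ∉ u := fun h => notMem_erase q o (hu h)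
    have h5 : (insert q u).card = 5 := by rw [card_insert_of_notMem hqu, hu4]
    have := (hO.2 _ h5).unique ⟨ho, insert_subset hqo fun y hy => mem_of_mem_erase (hu hy)⟩
      ⟨ho', insert_subset hq fun y hy => huo (mem_insert_of_mem hy)⟩
    exact hx (this ▸ huo (mem_insert_self x u))
  have ho' : o.image g ∈ Cfsg.octads := (GolayUnique.mem_setSystemAut_iff.1 hg o).2 ho
  obtain ⟨s, hs, hs5⟩ := exists_subset_card_eq
    (show 5 ≤ (o.erase p).card by rw [card_erase_of_mem hpo, hO.1 o ho]; norm_num)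
  have := (hO.2 s hs5).unique ⟨ho, fun y hy => mem_of_mem_erase (hs hy)⟩ ⟨ho', fun y hy => by
    obtain ⟨hne, hyo⟩ := mem_erase.1 (hs hy)
    exact mem_image.2 ⟨y, hyo, hfix y hne fun e => hqo (e ▸ hyo)⟩⟩
  exact hqo (this.symm ▸ mem_image.2 ⟨p, hpo, hp⟩)

theorem hexads_aut :
    Nat.card (Cfsg.setSystemAut hexads) = 887040 ∧
      MulAction.IsMultiplyPretransitive (Cfsg.setSystemAut hexads) Pt22 3 ∧
        ∃ H : Subgroup (Cfsg.setSystemAut hexads), H.index = 2 ∧ Cfsg.IsM22 H := by
  classical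
  set φ : Cfsg.Spor.M22 →* Cfsg.setSystemAut hexads :=
    restrictHom.comp (Subgroup.inclusion M22_le_pairStab) with hφ
  have hval : ∀ (g : Cfsg.Spor.M22) (x : Pt22), (((φ g).1 x : Pt22) : Cfsg.GolayPt) = g.1 x :=
    fun g x => rfl
  have hinj : Function.Injective φ := by
    intro g h hgh
    refine Subtype.ext (Equiv.ext fun x => ?_)
    obtain ⟨-, g0, g1⟩ := Mathieu.mem_M22_iff.1 g.2
    obtain ⟨-, h0, h1⟩ := Mathieu.mem_M22_iff.1 h.2
    by_cases hx : x ∈ twoPts
    · rcases mem_twoPts.1 hx with rfl | rfl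
      exacts [g0.trans h0.symm, g1.trans h1.symm]
    · rw [← hval g ⟨x, hx⟩, ← hval h ⟨x, hx⟩, hgh]
  have hcardH : Nat.card φ.range = 443520 := by
    rw [Nat.card_congr (MonoidHom.ofInjective hinj).toEquiv.symm, Mathieu.card_M22]
  obtain ⟨g0, hg0, hg0a, hg0b⟩ := Mathieu.M24_exists_map_pair (p := none) (q := some (0 : ZMod 23))
    (p' := some (0 : ZMod 23)) (q' := none) (by simp) (by simp)
  have hg0P : g0 ∈ pairStab := ⟨Mathieu.M24_eq_setSystemAut_octads ▸ hg0, by
    show twoPts.image g0 = twoPts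
    rw [twoPts, image_insert, image_singleton, hg0a, hg0b, pair_comm]⟩
  have hψ : restrictHom ⟨g0, hg0P⟩ ∉ φ.range := by
    rintro ⟨h, hh⟩
    obtain ⟨h24, h0, h1⟩ := Mathieu.mem_M22_iff.1 h.2
    refine not_mem_of_transposition (g := h.1⁻¹ * g0) (p := none) (q := some 0) (by simp)
      (by rw [Equiv.Perm.mul_apply, hg0a, Equiv.Perm.inv_eq_iff_eq, h1]) (fun x hx0 hx1 => ?_) ?_
    · have hx : x ∉ twoPts := fun e => (mem_twoPts.1 e).elim hx0 hx1
      rw [Equiv.Perm.mul_apply, Equiv.Perm.inv_eq_iff_eq, ← hval h ⟨x, hx⟩, hh]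
      rfl
    · rw [← Mathieu.M24_eq_setSystemAut_octads]
      exact mul_mem (inv_mem h24) hg0
  have hle := card_aut_le card_pt22 hexads_steiner
  have hmul := φ.range.card_mul_index
  rw [hcardH] at hmul
  have hidx : φ.range.index = 2 := by
    have h1 : φ.range.index ≠ 1 := fun h => hψ ((Subgroup.index_eq_one.1 h) ▸ Subgroup.mem_top _)
    have h0 : φ.range.index ≠ 0 := Subgroup.index_ne_zero_of_finite
    omega
  refine ⟨by rw [← hmul, hidx], ⟨fun x y => ?_⟩, φ.range, hidx, ?_, hcardH⟩
  · obtain ⟨g, hg, hxy⟩ := Mathieu.M22_exists_map le_rfl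
      (x.trans (Function.Embedding.subtype _)) (y.trans (Function.Embedding.subtype _))
      (fun i => by
        have := (x i).2
        rw [mem_twoPts, not_or] at this
        exact this)
      (fun i => by
        have := (y i).2
        rw [mem_twoPts, not_or] at this
        exact this)
    exact ⟨φ ⟨g, hg⟩, Function.Embedding.ext fun i => Subtype.ext (hxy i)⟩
  · have := Mathieu.isSimple_M22
    exact MulEquiv.isSimpleGroup (MonoidHom.ofInjective hinj).symm

theorem aut_22 (hα : Fintype.card α = 22) (hB : Cfsg.IsSteinerSystem 3 6 B) :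
    Nat.card (Cfsg.setSystemAut B) = 887040 ∧
      MulAction.IsMultiplyPretransitive (Cfsg.setSystemAut B) α 3 ∧
        ∃ H : Subgroup (Cfsg.setSystemAut B), H.index = 2 ∧ Cfsg.IsM22 H := by
  classical
  obtain ⟨e, he⟩ := exists_iso_22 hα card_pt22 hB hexads_steiner
  obtain ⟨hc, ht, H, hidx, hs, hH⟩ := hexads_aut
  set f := GolayUnique.autEquiv e he
  refine ⟨(Nat.card_congr f.toEquiv).trans hc, GolayUnique.isMultiplyPretransitive_transport e he ht,
    H.map f.symm.toMonoidHom, ?_, ?_, ?_⟩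
  · rw [MulEquiv.toMonoidHom_eq_coe, Subgroup.index_map_equiv, hidx]
  · exact MulEquiv.isSimpleGroup (f.symm.subgroupMap H).symm
  · rw [← hH]
    exact Nat.card_congr (f.symm.subgroupMap H).symm.toEquiv

end Cfsg.Agent.Hexad22
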