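import Cfsg.Agent.Lib.Hexad22.Aut
import Cfsg.Agent.S0428
import Mathlib.Combinatorics.SimpleGraph.StronglyRegular

/-!
Every strongly regular graph with parameters (100,22,0,6) is the point-block graph of an S(3,6,22);
the automorphism group of that graph is transitive of order 88704000.
-/

set_option autoImplicit false

namespace Cfsg.Agent.Hexad22

open Finset

/-! ### The point-block graph -/

section PointBlock

variable {α : Type*} {B : Set (Finset α)}

theorem pbg_none_inl (a : α) : (Cfsg.pointBlockGraph B).Adj none (some (Sum.inl a)) := by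
  simp [Cfsg.pointBlockGraph, Cfsg.pointBlockRel]

theorem pbg_none_inr (u : B) : ¬ (Cfsg.pointBlockGraph B).Adj none (some (Sum.inr u)) := by
  simp [Cfsg.pointBlockGraph, Cfsg.pointBlockRel]

theorem pbg_inl_inl (a a' : α) :
    ¬ (Cfsg.pointBlockGraph B).Adj (some (Sum.inl a)) (some (Sum.inl a')) := by
  simp [Cfsg.pointBlockGraph, Cfsg.pointBlockRel]

theorem pbg_inl_inr (a : α) (u : B) :
    (Cfsg.pointBlockGraph B).Adj (some (Sum.inl a)) (some (Sum.inr u)) ↔ a ∈ (u : Finset α) := by
  simp [Cfsg.pointBlockGraph, Cfsg.pointBlockRel]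

theorem pbg_inr_inr (u w : B) :
    (Cfsg.pointBlockGraph B).Adj (some (Sum.inr u)) (some (Sum.inr w)) ↔
      u ≠ w ∧ Disjoint (u : Finset α) (w : Finset α) := by
  simp only [Cfsg.pointBlockGraph, SimpleGraph.fromRel_adj, Cfsg.pointBlockRel, ne_eq,
    Option.some.injEq, Sum.inr.injEq]
  exact ⟨fun h => ⟨h.1, h.2.elim id fun h' => h'.symm⟩, fun h => ⟨h.1, Or.inl h.2⟩⟩

variable {β : Type*} [DecidableEq α] [DecidableEq β] {B' : Set (Finset β)}

/-- An isomorphism of systems on the blocks. -/
def blockEquiv (e : α ≃ β) (h : ∀ b : Finset α, b ∈ B ↔ b.image e ∈ B') : B ≃ B' where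
  toFun u := ⟨u.1.image e, (h _).1 u.2⟩
  invFun u := ⟨u.1.image e.symm, (h _).2 (by rw [image_image]; simpa using u.2)⟩
  left_inv u := Subtype.ext (by simp [image_image])
  right_inv u := Subtype.ext (by simp [image_image])

/-- An isomorphism of systems on the graphs. -/
def mapIso (e : α ≃ β) (h : ∀ b : Finset α, b ∈ B ↔ b.image e ∈ B') :
    Cfsg.pointBlockGraph B ≃g Cfsg.pointBlockGraph B' where
  toEquiv := (e.sumCongr (blockEquiv e h)).optionCongr
  map_rel_iff' := by
    intro x y
    have hd : ∀ u w : B, Disjoint (u.1.image e) (w.1.image e) ↔ Disjoint u.1 w.1 := fun u w =>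
      disjoint_image e.injective
    have hm : ∀ (a : α) (u : B), e a ∈ u.1.image e ↔ a ∈ u.1 := fun a u =>
      e.injective.mem_finset_image
    rcases x with _ | a | u <;> rcases y with _ | c | w <;>
      simp [Cfsg.pointBlockGraph, Cfsg.pointBlockRel, hd, hm, blockEquiv,
        Finset.image_inj, e.injective, Subtype.ext_iff, (Finset.image_injective e.injective).eq_iff]

theorem mapIso_none (e : α ≃ β) (h : ∀ b : Finset α, b ∈ B ↔ b.image e ∈ B') :
    mapIso e h none = none := rfl

theorem mapIso_inl (e : α ≃ β) (h : ∀ b : Finset α, b ∈ B ↔ b.image e ∈ B') (a : α) :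
    mapIso e h (some (Sum.inl a)) = some (Sum.inl (e a)) := rfl

theorem mapIso_inr (e : α ≃ β) (h : ∀ b : Finset α, b ∈ B ↔ b.image e ∈ B') (u : B) :
    mapIso e h (some (Sum.inr u)) = some (Sum.inr ⟨u.1.image e, (h _).1 u.2⟩) := rfl

end PointBlock

/-! ### Reconstruction -/

theorem eq_two_of_sums {ι : Type*} (s : Finset ι) (g : ι → ℕ) (hc : s.card = 60)
    (h1 : ∑ i ∈ s, g i = 120) (h2 : ∑ i ∈ s, g i * g i = 240) : ∀ i ∈ s, g i = 2 := by
  have h0 : ∑ i ∈ s, ((g i : ℤ) - 2) ^ 2 = 0 := by
    have e1 : ∑ i ∈ s, (g i : ℤ) = 120 := by exact_mod_cast h1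
    have e2 : ∑ i ∈ s, (g i : ℤ) * g i = 240 := by exact_mod_cast h2
    have : ∀ i ∈ s, ((g i : ℤ) - 2) ^ 2 = (g i : ℤ) * g i - 4 * g i + 4 := fun i _ => by ring
    rw [sum_congr rfl this, sum_add_distrib, sum_sub_distrib, ← mul_sum, e1, e2, sum_const, hc]
    norm_num
  intro i hi
  have := (sum_eq_zero_iff_of_nonneg fun j _ => sq_nonneg ((g j : ℤ) - 2)).1 h0 i hi
  have := pow_eq_zero_iff (two_ne_zero (α := ℕ)) |>.1 this
  omega

section Reconstruct

variable {V : Type*} [Fintype V] [DecidableEq V] {G : SimpleGraph V} [DecidableRel G.Adj]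

/-- The neighbours. -/
abbrev Nbr (G : SimpleGraph V) (v : V) : Type _ := {x : V // G.Adj v x}

/-- The other vertices. -/
abbrev Far (G : SimpleGraph V) (v : V) : Type _ := {w : V // w ≠ v ∧ ¬ G.Adj v w}

/-- The neighbours of `v` adjacent to `w`. -/
def nbrBlock (G : SimpleGraph V) [DecidableRel G.Adj] (v : V) (w : Far G v) : Finset (Nbr G v) :=
  univ.filter fun x => G.Adj w.1 x.1

variable (hG : G.IsSRGWith 100 22 0 6) (v : V)
include hG

theorem card_nbrs (x : V) : (univ.filter fun u => G.Adj x u).card = 22 := by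
  rw [← hG.regular x, ← SimpleGraph.card_neighborFinset_eq_degree]
  congr 1
  ext u; simp

theorem card_common (x y : V) (hne : x ≠ y) : (univ.filter fun u => G.Adj x u ∧ G.Adj y u).card =
    if G.Adj x y then 0 else 6 := by
  have key : (univ.filter fun u => G.Adj x u ∧ G.Adj y u).card =
      Fintype.card (G.commonNeighbors x y) := by
    rw [Fintype.card_subtype]
    congr 1
  rw [key]
  by_cases h : G.Adj x y
  · rw [if_pos h, hG.of_adj x y h]
  · rw [if_neg h, hG.of_not_adj hne h]

theorem no_triangle {x y z : V} (h1 : G.Adj x y) (h2 : G.Adj x z) (h3 : G.Adj y z) : False := by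
  have h := card_common hG x y h1.ne
  rw [if_pos h1, card_eq_zero, filter_eq_empty_iff] at h
  exact h (mem_univ z) ⟨h2, h3⟩

theorem card_Nbr : Fintype.card (Nbr G v) = 22 := by
  rw [Fintype.card_subtype]; exact card_nbrs hG v

theorem card_Far : Fintype.card (Far G v) = 77 := by
  rw [Fintype.card_subtype]
  have h : (univ.filter fun w => w ≠ v ∧ ¬ G.Adj v w) =
      univ \ insert v (univ.filter fun w => G.Adj v w) := by
    ext w; simp [not_or]
  rw [h, card_sdiff_of_subset (subset_univ _), card_univ, hG.card,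
    card_insert_of_notMem (by simp), card_nbrs hG v]

theorem card_nbrBlock (w : Far G v) : (nbrBlock G v w).card = 6 := by
  have h := card_common hG v w.1 w.2.1.symm
  rw [if_neg w.2.2] at h
  rw [← h, nbrBlock, ← card_map (Function.Embedding.subtype _)]
  congr 1
  ext u
  simp [and_comm]

theorem card_far_nbrs (x : Nbr G v) :
    (univ.filter fun w : Far G v => x ∈ nbrBlock G v w).card = 21 := by
  rw [← card_map (Function.Embedding.subtype _)]
  have h : (univ.filter fun w : Far G v => x ∈ nbrBlock G v w).map (Function.Embedding.subtype _) =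
      (univ.filter fun u => G.Adj x.1 u).erase v := by
    ext u
    simp only [nbrBlock, mem_map, mem_filter, mem_univ, true_and, Function.Embedding.coe_subtype,
      mem_erase]
    constructor
    · rintro ⟨w, hw, rfl⟩
      exact ⟨w.2.1, hw.symm⟩
    · rintro ⟨hne, hu⟩
      exact ⟨⟨u, hne, fun h => no_triangle hG x.2 h hu⟩, hu.symm, rfl⟩
  rw [h, card_erase_of_mem (by simp [x.2.symm]), card_nbrs hG x.1]

theorem card_far_pair (x y : Nbr G v) (hne : x ≠ y) :
    (univ.filter fun w : Far G v => x ∈ nbrBlock G v w ∧ y ∈ nbrBlock G v w).card = 5 := by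
  rw [← card_map (Function.Embedding.subtype _)]
  have h : (univ.filter fun w : Far G v => x ∈ nbrBlock G v w ∧ y ∈ nbrBlock G v w).map
      (Function.Embedding.subtype _) =
      (univ.filter fun u => G.Adj x.1 u ∧ G.Adj y.1 u).erase v := by
    ext u
    simp only [nbrBlock, mem_map, mem_filter, mem_univ, true_and, Function.Embedding.coe_subtype,
      mem_erase]
    constructor
    · rintro ⟨w, hw, rfl⟩
      exact ⟨w.2.1, hw.1.symm, hw.2.symm⟩
    · rintro ⟨hu, hx, hy⟩
      exact ⟨⟨u, hu, fun h => no_triangle hG x.2 h hx⟩, ⟨hx.symm, hy.symm⟩, rfl⟩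
  rw [h, card_erase_of_mem (by simp [x.2.symm, y.2.symm]),
    card_common hG x.1 y.1 (fun e => hne (Subtype.ext e)),
    if_neg fun h => no_triangle hG x.2 y.2 h]

/-- Two far vertices: disjoint blocks exactly when adjacent, otherwise two common points. -/
theorem inter_nbrBlock (w w' : Far G v) (hne : w ≠ w') :
    (G.Adj w.1 w'.1 → Disjoint (nbrBlock G v w) (nbrBlock G v w')) ∧
      (¬ G.Adj w.1 w'.1 → (nbrBlock G v w ∩ nbrBlock G v w').card = 2) := by
  set b := nbrBlock G v w with hb
  set g := fun u : Far G v => (b ∩ nbrBlock G v u).card with hg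
  set F := (univ : Finset (Far G v)).erase w with hF
  have hadj : ∀ u : Far G v, G.Adj w.1 u.1 → Disjoint b (nbrBlock G v u) := fun u hu =>
    disjoint_left.2 fun x hx hx' => by
      simp only [hb, nbrBlock, mem_filter, mem_univ, true_and] at hx hx'
      exact no_triangle hG hu hx hx'
  refine ⟨hadj w', fun hna => ?_⟩
  have hs1 : ∑ u ∈ F, g u = 120 := by
    have h := sum_card_bipartiteAbove_eq_sum_card_bipartiteBelow
      (fun (x : Nbr G v) (u : Far G v) => x ∈ nbrBlock G v u) (s := b) (t := F)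
    have hl : ∀ x ∈ b, (F.bipartiteAbove (fun x u => x ∈ nbrBlock G v u) x).card = 20 := by
      intro x hx
      rw [bipartiteAbove, hF, filter_erase, card_erase_of_mem (show w ∈ univ.filter fun u => x ∈ nbrBlock G v u from
        mem_filter.2 ⟨mem_univ _, hx⟩),
        card_far_nbrs hG v x]
    rw [sum_congr rfl hl, sum_const, card_nbrBlock hG v w] at h
    rw [show (120 : ℕ) = 6 • 20 by rfl, h]
    exact sum_congr rfl fun u _ => by rw [hg, bipartiteBelow, filter_mem_eq_inter]
  have hs2 : ∑ u ∈ F, g u * g u = 240 := by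
    have h := sum_card_bipartiteAbove_eq_sum_card_bipartiteBelow
      (fun (p : Nbr G v × Nbr G v) (u : Far G v) => p.1 ∈ nbrBlock G v u ∧ p.2 ∈ nbrBlock G v u)
      (s := b ×ˢ b) (t := F)
    have hl : ∀ p ∈ b ×ˢ b, (F.bipartiteAbove (fun (p : Nbr G v × Nbr G v) (u : Far G v) =>
        p.1 ∈ nbrBlock G v u ∧ p.2 ∈ nbrBlock G v u) p).card = if p.1 = p.2 then 20 else 4 := by
      intro p hp
      rw [mem_product] at hp
      rw [bipartiteAbove, hF, filter_erase,
        card_erase_of_mem (mem_filter.2 ⟨mem_univ _, hp.1, hp.2⟩)]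
      split
      · next he =>
        have := card_far_nbrs hG v p.1
        simp only [← he, and_self]
        omega
      · next he => rw [card_far_pair hG v p.1 p.2 he]
    rw [sum_congr rfl hl, sum_ite, sum_const, sum_const,
      show ((b ×ˢ b).filter fun p => p.1 = p.2) = b.diag by
        ext ⟨x, y⟩; simp [mem_diag]; exact fun e h => e ▸ h,
      show ((b ×ˢ b).filter fun p => ¬ p.1 = p.2) = b.offDiag by
        ext ⟨x, y⟩; simp [mem_offDiag, and_assoc],
      diag_card, offDiag_card, card_nbrBlock hG v w] at h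
    rw [show (240 : ℕ) = 6 • 20 + (6 * 6 - 6) • 4 by rfl, h]
    refine sum_congr rfl fun u _ => ?_
    rw [hg, ← card_product]
    congr 1
    ext ⟨x, y⟩
    simp only [bipartiteBelow, mem_product, mem_filter, mem_inter]
    tauto
  have hA : (F.filter fun u => G.Adj w.1 u.1).card = 16 := by
    rw [hF, filter_erase, erase_eq_of_notMem (by simp),
      ← card_map (Function.Embedding.subtype _)]
    have h : (univ.filter fun u : Far G v => G.Adj w.1 u.1).map (Function.Embedding.subtype _) =
        (univ.filter fun u => G.Adj w.1 u) \ (univ.filter fun u => G.Adj w.1 u ∧ G.Adj v u) := by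
      ext u
      simp only [mem_map, mem_filter, mem_univ, true_and, Function.Embedding.coe_subtype,
        mem_sdiff, not_and]
      constructor
      · rintro ⟨z, hz, rfl⟩
        exact ⟨hz, fun _ => z.2.2⟩
      · rintro ⟨hu, hv⟩
        exact ⟨⟨u, fun e => w.2.2 ((e ▸ hu).symm), hv hu⟩, hu, rfl⟩
    rw [h, card_sdiff_of_subset (fun u hu => by simp only [mem_filter] at hu ⊢; exact ⟨hu.1, hu.2.1⟩),
      card_nbrs hG w.1, card_common hG w.1 v w.2.1, if_neg fun h => w.2.2 h.symm]
  have hz : ∀ u ∈ F.filter (fun u => G.Adj w.1 u.1), g u = 0 := fun u hu => by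
    rw [hg]; exact card_eq_zero.2 (disjoint_iff_inter_eq_empty.1 (hadj u (mem_filter.1 hu).2))
  have hsplit := fun f : Far G v → ℕ => sum_filter_add_sum_filter_not F (fun u => G.Adj w.1 u.1) f
  have hR := card_filter_add_card_filter_not (s := F) (fun u => G.Adj w.1 u.1)
  have hFc : F.card = 76 := by
    rw [hF, card_erase_of_mem (mem_univ w), card_univ, card_Far hG v]
  have e1 := hsplit g
  rw [sum_eq_zero hz, hs1, zero_add] at e1
  have e2 := hsplit fun u => g u * g u
  rw [sum_eq_zero fun u hu => by rw [hz u hu, mul_zero], hs2, zero_add] at e2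
  exact eq_two_of_sums (F.filter fun u => ¬ G.Adj w.1 u.1) g (by omega) e1 e2 w'
    (mem_filter.2 ⟨mem_erase.2 ⟨hne.symm, mem_univ _⟩, hna⟩)

theorem nbrBlock_injective : Function.Injective (nbrBlock G v) := by
  intro w w' e
  by_contra hne
  have h := inter_nbrBlock hG v w w' hne
  have h6 := card_nbrBlock hG v w'
  by_cases ha : G.Adj w.1 w'.1
  · have := h.1 ha
    rw [e, disjoint_self] at this
    rw [this] at h6
    simp at h6
  · have := h.2 ha
    rw [e, inter_self] at this
    omega

theorem adj_iff_disjoint (w w' : Far G v) :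
    G.Adj w.1 w'.1 ↔ w ≠ w' ∧ Disjoint (nbrBlock G v w) (nbrBlock G v w') := by
  refine ⟨fun h => ⟨fun e => h.ne (congrArg Subtype.val e), (inter_nbrBlock hG v w w'
    fun e => h.ne (congrArg Subtype.val e)).1 h⟩, fun ⟨hne, hd⟩ => ?_⟩
  by_contra h
  have := (inter_nbrBlock hG v w w' hne).2 h
  rw [disjoint_iff_inter_eq_empty.1 hd] at this
  simp at this

theorem nbrBlock_steiner : Cfsg.IsSteinerSystem 3 6 (Set.range (nbrBlock G v)) := by
  refine ⟨?_, fun s hs => ?_⟩
  · rintro _ ⟨w, rfl⟩; exact card_nbrBlock hG v w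
  have hd : ((univ : Finset (Far G v)) : Set (Far G v)).PairwiseDisjoint
      fun w => (nbrBlock G v w).powersetCard 3 := by
    intro w _ w' _ hne
    refine disjoint_left.2 fun T hT hT' => ?_
    rw [mem_powersetCard] at hT hT'
    have h2 : (nbrBlock G v w ∩ nbrBlock G v w').card ≤ 2 := by
      by_cases ha : G.Adj w.1 w'.1
      · rw [disjoint_iff_inter_eq_empty.1 ((inter_nbrBlock hG v w w' hne).1 ha)]; simp
      · rw [(inter_nbrBlock hG v w w' hne).2 ha]
    have := card_le_card (subset_inter hT.1 hT'.1)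
    omega
  have hall : univ.biUnion (fun w => (nbrBlock G v w).powersetCard 3) =
      (univ : Finset (Nbr G v)).powersetCard 3 := by
    refine eq_of_subset_of_card_le (fun T hT => ?_) ?_
    · obtain ⟨w, -, hw⟩ := mem_biUnion.1 hT
      exact powersetCard_mono (subset_univ _) hw
    · rw [card_biUnion hd, sum_congr rfl fun w _ => by rw [card_powersetCard, card_nbrBlock hG v w],
        sum_const, card_powersetCard, card_univ, card_univ, card_Far hG v, card_Nbr hG v]
      rfl
  have hmem : s ∈ univ.biUnion (fun w => (nbrBlock G v w).powersetCard 3) := by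
    rw [hall, mem_powersetCard]; exact ⟨subset_univ _, hs⟩
  obtain ⟨w, -, hw⟩ := mem_biUnion.1 hmem
  refine ⟨nbrBlock G v w, ⟨⟨w, rfl⟩, (mem_powersetCard.1 hw).1⟩, ?_⟩
  rintro _ ⟨⟨w', rfl⟩, hsw'⟩
  congr 1
  by_contra hne
  exact disjoint_left.1 (hd (mem_univ w') (mem_univ w) hne) (mem_powersetCard.2 ⟨hsw', hs⟩) hw

theorem exists_pbg_iso : ∃ φ : Cfsg.pointBlockGraph (Set.range (nbrBlock G v)) ≃g G, φ none = v := by
  let ε := Equiv.ofInjective (nbrBlock G v) (nbrBlock_injective hG v)
  let f : Option (Nbr G v ⊕ Set.range (nbrBlock G v)) → V := fun o =>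
    o.elim v (Sum.elim Subtype.val fun u => (ε.symm u).1)
  have hf : Function.Bijective f := by
    refine (Fintype.bijective_iff_injective_and_card _).2 ⟨?_, ?_⟩
    · rintro (_ | a | u) (_ | c | w) h <;> simp only [f, Option.elim, Sum.elim_inl, Sum.elim_inr] at h
      · rfl
      · exact absurd h c.2.ne
      · exact absurd h.symm (ε.symm w).2.1
      · exact absurd h.symm a.2.ne
      · rw [Subtype.ext h]
      · exact absurd (h ▸ a.2) (ε.symm w).2.2
      · exact absurd h (ε.symm u).2.1
      · exact absurd (h.symm ▸ c.2) (ε.symm u).2.2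
      · rw [ε.symm.injective (Subtype.ext h)]
    · rw [Fintype.card_option, Fintype.card_sum, Set.card_range_of_injective (nbrBlock_injective hG v),
        card_Nbr hG v, card_Far hG v, hG.card]
  have hblock : ∀ u : Set.range (nbrBlock G v), (u : Finset (Nbr G v)) = nbrBlock G v (ε.symm u) :=
    fun u => (congrArg Subtype.val (ε.apply_symm_apply u)).symm
  refine ⟨⟨Equiv.ofBijective f hf, fun {x y} => ?_⟩, rfl⟩
  have key : ∀ (a : Nbr G v) (u : Set.range (nbrBlock G v)),
      G.Adj a.1 (ε.symm u).1 ↔ a ∈ (u : Finset (Nbr G v)) := fun a u => by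
    rw [hblock u]; simp [nbrBlock, G.adj_comm]
  show G.Adj (f x) (f y) ↔ _
  rcases x with _ | a | u <;> rcases y with _ | c | w <;>
    simp only [f, Option.elim, Sum.elim_inl, Sum.elim_inr]
  · exact iff_of_false (G.irrefl) (SimpleGraph.irrefl _)
  · exact iff_of_true c.2 (pbg_none_inl c)
  · exact iff_of_false (ε.symm w).2.2 (pbg_none_inr w)
  · exact iff_of_true a.2.symm (pbg_none_inl a).symm
  · exact iff_of_false (fun h => no_triangle hG a.2 c.2 h) (pbg_inl_inl a c)
  · rw [key, pbg_inl_inr]
  · exact iff_of_false (fun h => (ε.symm u).2.2 h.symm) (fun h => pbg_none_inr u h.symm)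
  · rw [SimpleGraph.adj_comm, key, SimpleGraph.adj_comm, pbg_inl_inr]
  · rw [adj_iff_disjoint hG v, pbg_inr_inr, hblock u, hblock w]
    exact and_congr_left fun _ => ε.symm.injective.ne_iff

end Reconstruct

end Cfsg.Agent.Hexad22
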