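import Cfsg.Agent.Lib.Hexad22.Graph
import Cfsg.Agent.Lib.Mathieu.Generators
import Cfsg.Agent.S0428

/-!
The automorphism group of the point-block graph of an S(3,6,22): order 88704000, with the even
automorphisms forming a simple subgroup of order 44352000.
-/

set_option autoImplicit false

namespace Cfsg.Agent.Hexad22

open Finset

section General

variable {α : Type*} [Fintype α] [DecidableEq α] {B : Set (Finset α)}
  (hα : Fintype.card α = 22) (hB : Cfsg.IsSteinerSystem 3 6 B)

/-- Automorphisms as permutations of the vertices. -/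
def permHom {V : Type*} (G : SimpleGraph V) : (G ≃g G) →* Equiv.Perm V where
  toFun f := f.toEquiv
  map_one' := rfl
  map_mul' _ _ := rfl

theorem permHom_injective {V : Type*} (G : SimpleGraph V) : Function.Injective (permHom G) :=
  fun _ _ h => RelIso.ext fun x => Equiv.ext_iff.1 h x

/-- The automorphisms fixing the extra vertex. -/
def fixExtra (B : Set (Finset α)) :
    Subgroup (Cfsg.pointBlockGraph B ≃g Cfsg.pointBlockGraph B) :=
  (MulAction.stabilizer (Equiv.Perm (Option (α ⊕ B))) (none : Option (α ⊕ B))).comap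
    (permHom (Cfsg.pointBlockGraph B))

omit [Fintype α] [DecidableEq α] in
theorem mem_fixExtra {f : Cfsg.pointBlockGraph B ≃g Cfsg.pointBlockGraph B} :
    f ∈ fixExtra B ↔ f none = none := Iff.rfl

/-- The action of the automorphisms of the system. -/
def liftHom (B : Set (Finset α)) :
    Cfsg.setSystemAut B →* (Cfsg.pointBlockGraph B ≃g Cfsg.pointBlockGraph B) where
  toFun σ := mapIso σ.1 fun b => (GolayUnique.mem_setSystemAut_iff.1 σ.2 b).symm
  map_one' := by
    refine RelIso.ext fun x => ?_
    rcases x with _ | a | u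
    · rfl
    · rfl
    · show some (Sum.inr _) = some (Sum.inr u)
      exact congrArg (some ∘ Sum.inr) (Subtype.ext (by simp [blockEquiv]))
  map_mul' σ τ := by
    refine RelIso.ext fun x => ?_
    rcases x with _ | a | u
    · rfl
    · rfl
    · show some (Sum.inr _) = some (Sum.inr _)
      exact congrArg (some ∘ Sum.inr) (Subtype.ext (by simp [blockEquiv, image_image]))

omit [Fintype α] in
theorem liftHom_inl (σ : Cfsg.setSystemAut B) (a : α) :
    liftHom B σ (some (Sum.inl a)) = some (Sum.inl (σ.1 a)) := rfl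

omit [Fintype α] in
theorem liftHom_injective : Function.Injective (liftHom B) := by
  intro σ τ h
  refine Subtype.ext (Equiv.ext fun a => ?_)
  have := DFunLike.congr_fun h (some (Sum.inl a))
  rw [liftHom_inl, liftHom_inl] at this
  simpa using this

theorem range_liftHom : (liftHom B).range = fixExtra B := by
  refine le_antisymm ?_ fun f hf => ?_
  · rintro _ ⟨σ, rfl⟩; rfl
  rw [mem_fixExtra] at hf
  have hpt : ∀ (g : Cfsg.pointBlockGraph B ≃g Cfsg.pointBlockGraph B), g none = none → ∀ a : α,
      ∃ c, g (some (Sum.inl a)) = some (Sum.inl c) := by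
    intro g hg a
    have h := g.map_rel_iff.2 (pbg_none_inl (B := B) a)
    rw [hg] at h
    rcases hx : g (some (Sum.inl a)) with _ | c | u
    · rw [hx] at h; exact absurd h (SimpleGraph.irrefl _)
    · exact ⟨c, rfl⟩
    · rw [hx] at h; exact absurd h (pbg_none_inr u)
  have hf' : f.symm none = none := by
    conv_lhs => rw [← hf]
    exact f.symm_apply_apply none
  choose p hp using hpt f hf
  choose q hq using hpt f.symm hf'
  let π : Equiv.Perm α :=
    { toFun := p
      invFun := q
      left_inv := fun a => by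
        have := hq (p a)
        rw [← hp a, f.symm_apply_apply] at this
        simpa using this.symm
      right_inv := fun a => by
        have := hp (q a)
        rw [← hq a, f.apply_symm_apply] at this
        simpa using this.symm }
  have hblk : ∀ u : B, ∃ w : B, f (some (Sum.inr u)) = some (Sum.inr w) ∧ u.1.image π = w.1 := by
    intro u
    rcases hx : f (some (Sum.inr u)) with _ | c | w
    · exact absurd (f.injective (hx.trans hf.symm)) (by simp)
    · obtain h := hq c
      rw [← hx, f.symm_apply_apply] at h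
      simp at h
    · refine ⟨w, rfl, ?_⟩
      ext y
      obtain ⟨a, rfl⟩ := π.surjective y
      rw [π.injective.mem_finset_image, ← pbg_inl_inr, ← f.map_rel_iff, hp, hx, pbg_inl_inr]
      rfl
  have hπ : π ∈ Cfsg.setSystemAut B := by
    rw [GolayUnique.mem_setSystemAut_iff]
    intro b
    constructor
    · intro hb
      obtain ⟨u, hu⟩ : ∃ u : B, f (some (Sum.inr u)) = some (Sum.inr ⟨_, hb⟩) := by
        rcases hx : f.symm (some (Sum.inr (⟨_, hb⟩ : B))) with _ | c | u
        · exact absurd (f.symm.injective (hx.trans hf'.symm)) (by simp)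
        · have h := hp c
          rw [← hx, f.apply_symm_apply] at h
          simp at h
        · exact ⟨u, by rw [← hx, f.apply_symm_apply]⟩
      obtain ⟨w, hw, hwu⟩ := hblk u
      rw [hu] at hw
      have hw' : w.1 = b.image π :=
        congrArg Subtype.val (Sum.inr_injective (Option.some_injective _ hw)).symm
      rw [← Finset.image_injective π.injective (hwu.trans hw')]
      exact u.2
    · intro hb
      obtain ⟨w, -, hw⟩ := hblk ⟨b, hb⟩
      rw [show b.image π = w.1 from hw]
      exact w.2
  refine ⟨⟨π, hπ⟩, RelIso.ext fun x => ?_⟩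
  rcases x with _ | a | u
  · exact hf.symm
  · exact (hp a).symm
  · obtain ⟨w, hw, hwu⟩ := hblk u
    rw [hw]
    exact congrArg (some ∘ Sum.inr) (Subtype.ext hwu)

include hα hB in
theorem exists_aut_map (x : Option (α ⊕ B)) :
    ∃ f : Cfsg.pointBlockGraph B ≃g Cfsg.pointBlockGraph B, f none = x := by
  classical
  haveI : Fintype B := Fintype.ofFinite _
  have hS := S0428.result hα hB
  obtain ⟨φ, hφ⟩ := exists_pbg_iso hS x
  obtain ⟨e, he⟩ := exists_iso_22 hα (card_Nbr hS x) hB (nbrBlock_steiner hS x)
  exact ⟨(mapIso e he).trans φ, hφ⟩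

include hα hB in
theorem card_vertices : Nat.card (Option (α ⊕ B)) = 100 := by
  classical
  haveI : Fintype B := Fintype.ofFinite _
  rw [Nat.card_eq_fintype_card]
  exact (S0428.result hα hB).card

include hα hB in
theorem card_fixExtra : Nat.card (fixExtra B) = 887040 := by
  rw [← range_liftHom, Nat.card_congr (MonoidHom.ofInjective liftHom_injective).toEquiv.symm,
    (aut_22 hα hB).1]

include hα hB in
theorem index_fixExtra : (fixExtra B).index = 100 := by
  rw [fixExtra, Subgroup.index_comap, ← card_vertices hα hB]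
  set R := (permHom (Cfsg.pointBlockGraph B)).range with hR
  have : MulAction.IsPretransitive R (Option (α ⊕ B)) := by
    refine (MulAction.isPretransitive_iff_base (G := R) (none : Option (α ⊕ B))).2 fun x => ?_
    obtain ⟨f, hf⟩ := exists_aut_map hα hB x
    exact ⟨⟨_, f, rfl⟩, hf⟩
  rw [← MulAction.index_stabilizer_of_transitive R (none : Option (α ⊕ B))]
  rfl

include hα hB in
theorem card_graphAut :
    Nat.card (Cfsg.pointBlockGraph B ≃g Cfsg.pointBlockGraph B) = 88704000 := by
  rw [← (fixExtra B).card_mul_index, card_fixExtra hα hB, index_fixExtra hα hB]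

end General

/-! ### The simple subgroup -/

/-- The octads through both removed points fixed by `x ↦ -1/x`. -/
theorem fixed_count :
    ((Mathieu.maskList 8).filter fun m => Mathieu.hasPt m none && Mathieu.hasPt m (some 0) &&
      decide ((Mathieu.ptsOf m).image Cfsg.projInv = Mathieu.ptsOf m)).length = 5 := by
  decide +kernel

theorem projInv_facts : Cfsg.projInv none = some 0 ∧ Cfsg.projInv (some 0) = none ∧
    (∀ x, Cfsg.projInv (Cfsg.projInv x) = x) ∧ ∀ x, Cfsg.projInv x ≠ x := by decide +kernel

theorem projInv_mem_pairStab : Cfsg.projInv ∈ pairStab := by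
  refine ⟨Mathieu.M24_eq_setSystemAut_octads ▸ Mathieu.projInv_mem, ?_⟩
  show twoPts.image Cfsg.projInv = twoPts
  rw [twoPts, image_insert, image_singleton, projInv_facts.1, projInv_facts.2.1, pair_comm]

/-- The outer involution. -/
noncomputable def outer : Cfsg.pointBlockGraph hexads ≃g Cfsg.pointBlockGraph hexads :=
  liftHom hexads (restrictHom ⟨Cfsg.projInv, projInv_mem_pairStab⟩)

theorem outer_val (a : Pt22) : ((restrictHom ⟨Cfsg.projInv, projInv_mem_pairStab⟩).1 a : Pt22).1 =
    Cfsg.projInv a.1 := rfl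

theorem outer_sign [Fintype hexads] :
    Equiv.Perm.sign (permHom (Cfsg.pointBlockGraph hexads) outer) = -1 := by
  classical
  set σ := restrictHom ⟨Cfsg.projInv, projInv_mem_pairStab⟩ with hσ
  set h := fun b : Finset Pt22 => (GolayUnique.mem_setSystemAut_iff.1 σ.2 b).symm
  have hperm : permHom (Cfsg.pointBlockGraph hexads) outer =
      Equiv.optionCongr (Equiv.Perm.sumCongr σ.1 (blockEquiv σ.1 h)) := rfl
  rw [hperm, Equiv.optionCongr_sign, Equiv.Perm.sign_sumCongr]
  have hinv : ∀ a : Pt22, σ.1 (σ.1 a) = a := fun a => Subtype.ext (projInv_facts.2.2.1 a.1)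
  have hσ2 : σ.1 ^ 2 = 1 := Equiv.ext fun a => by rw [pow_two]; exact hinv a
  have hB2 : (blockEquiv σ.1 h : Equiv.Perm hexads) ^ 2 = 1 := by
    refine Equiv.ext fun u => Subtype.ext ?_
    rw [pow_two]
    show (u.1.image σ.1).image σ.1 = u.1
    rw [image_image, show (⇑σ.1 ∘ ⇑σ.1) = id from funext hinv, image_id]
  have hfix0 : Fintype.card (Function.fixedPoints σ.1) = 0 := by
    rw [Fintype.card_eq_zero_iff]
    exact ⟨fun a => projInv_facts.2.2.2 a.1.1 (congrArg Subtype.val a.2)⟩
  have hfix5 : Fintype.card (Function.fixedPoints (blockEquiv σ.1 h : Equiv.Perm hexads)) = 5 := by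
    rw [← Nat.card_eq_fintype_card, ← fixed_count,
      ← List.toFinset_card_of_nodup (List.Nodup.filter _
        (show (Mathieu.maskList 8).Nodup from List.Nodup.filter _ Mathieu.codeList_nodup)),
      ← Nat.card_eq_finsetCard]
    refine Nat.card_congr (Equiv.ofBijective (fun m =>
      (⟨⟨(Mathieu.ptsOf m.1).subtype fun x => x ∉ twoPts, ?_⟩, ?_⟩ :
        Function.fixedPoints (blockEquiv σ.1 h : Equiv.Perm hexads))) ⟨?_, ?_⟩).symm
    · have hm := m.2
      simp only [List.mem_toFinset, List.mem_filter, Bool.and_eq_true, decide_eq_true_eq] at hm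
      obtain ⟨hm8, ⟨hn, h0⟩, -⟩ := hm
      refine (mem_derived_iff ?_).2 (Mathieu.mem_octads_iff.2 ⟨m.1, hm8, rfl⟩)
      intro x hx
      rcases mem_twoPts.1 hx with rfl | rfl <;> rwa [Mathieu.mem_ptsOf]
    · have hm := m.2
      simp only [List.mem_toFinset, List.mem_filter, Bool.and_eq_true, decide_eq_true_eq] at hm
      refine Subtype.ext ?_
      show ((Mathieu.ptsOf m.1).subtype fun x => x ∉ twoPts).image σ.1 = _
      ext y
      obtain ⟨a, rfl⟩ := σ.1.surjective y
      rw [σ.1.injective.mem_finset_image, mem_subtype, mem_subtype]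
      conv_rhs => rw [← hm.2.2]
      show _ ↔ Cfsg.projInv a.1 ∈ _
      exact (Cfsg.projInv.injective.mem_finset_image).symm
    · intro m m' e
      have hm := m.2
      have hm' := m'.2
      simp only [List.mem_toFinset, List.mem_filter, Bool.and_eq_true, decide_eq_true_eq] at hm hm'
      have hlt : ∀ k, k ∈ Mathieu.maskList 8 → k < 2 ^ 24 := fun k hk =>
        (Mathieu.inCode_spec (Mathieu.mem_maskList.1 hk).1).1
      refine Subtype.ext (Mathieu.ptsOf_inj (hlt _ hm.1) (hlt _ hm'.1) ?_)
      have hD : ∀ k, Mathieu.hasPt k none = true → Mathieu.hasPt k (some 0) = true →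
          twoPts ⊆ Mathieu.ptsOf k := fun k h1 h2 x hx => by
        rcases mem_twoPts.1 hx with rfl | rfl
        exacts [Mathieu.mem_ptsOf.2 h1, Mathieu.mem_ptsOf.2 h2]
      rw [← union_subtype (hD _ hm.2.1.1 hm.2.1.2), ← union_subtype (hD _ hm'.2.1.1 hm'.2.1.2)]
      have e' := congrArg (fun w => (w.1.1 : Finset Pt22)) e
      simp only at e'
      rw [e']
    · intro u
      obtain ⟨m, hm, hmo⟩ := Mathieu.mem_octads_iff.1 u.1.2
      have hD : twoPts ⊆ Mathieu.ptsOf m := hmo ▸ subset_union_left
      have hfixed : u.1.1.image σ.1 = u.1.1 := congrArg Subtype.val u.2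
      refine ⟨⟨m, List.mem_toFinset.2 (List.mem_filter.2 ⟨hm, ?_⟩)⟩, Subtype.ext (Subtype.ext ?_)⟩
      · simp only [Bool.and_eq_true, decide_eq_true_eq]
        refine ⟨⟨Mathieu.mem_ptsOf.1 (hD (mem_twoPts.2 (Or.inl rfl))),
          Mathieu.mem_ptsOf.1 (hD (mem_twoPts.2 (Or.inr rfl)))⟩, ?_⟩
        have he : twoPts.image Cfsg.projInv = twoPts := projInv_mem_pairStab.2
        rw [hmo, image_union, he, map_eq_image, image_image]
        conv_rhs => rw [← hfixed, image_image]
        rfl
      · ext a
        rw [mem_subtype, hmo, mem_union, mem_map]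
        constructor
        · rintro (ha | ⟨c, hc, e⟩)
          · exact absurd ha a.2
          · rwa [← Subtype.ext e]
        · exact fun ha => Or.inr ⟨a, ha, rfl⟩
  rw [Equiv.Perm.sign_of_pow_two_eq_one hσ2, Equiv.Perm.sign_of_pow_two_eq_one hB2, hfix0, hfix5,
    card_pt22, show Fintype.card hexads = 77 by
      rw [← Nat.card_eq_fintype_card, Nat.card_coe_set_eq, ← Steiner.card_blocksF]
      have := Steiner.card_through hexads_steiner (∅ : Finset Pt22) (by simp)
      rw [card_pt22] at this
      simp [filter_true_of_mem, Nat.choose] at this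
      omega]
  decide

/-- The embedding of `M22`. -/
noncomputable def m22Hom : Cfsg.Spor.M22 →* (Cfsg.pointBlockGraph hexads ≃g Cfsg.pointBlockGraph hexads) :=
  (liftHom hexads).comp (restrictHom.comp (Subgroup.inclusion M22_le_pairStab))

theorem m22Hom_injective : Function.Injective m22Hom := by
  intro g h e
  refine Subtype.ext (Equiv.ext fun x => ?_)
  obtain ⟨-, g0, g1⟩ := Mathieu.mem_M22_iff.1 g.2
  obtain ⟨-, h0, h1⟩ := Mathieu.mem_M22_iff.1 h.2
  by_cases hx : x ∈ twoPts
  · rcases mem_twoPts.1 hx with rfl | rfl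
    exacts [g0.trans h0.symm, g1.trans h1.symm]
  · have := DFunLike.congr_fun (liftHom_injective e ▸ rfl :
      (restrictHom (Subgroup.inclusion M22_le_pairStab g)).1 =
        (restrictHom (Subgroup.inclusion M22_le_pairStab h)).1) ⟨x, hx⟩
    exact congrArg Subtype.val this

theorem m22_orbits (x y : Option (Pt22 ⊕ hexads)) (hx : x ≠ none) (hy : y ≠ none)
    (hxy : (x.bind Sum.getLeft?).isSome = (y.bind Sum.getLeft?).isSome) :
    ∃ g, m22Hom g x = y := by
  have hout : ∀ a : Pt22, (a.1 ≠ none ∧ a.1 ≠ some 0) := fun a => by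
    have := a.2
    rw [mem_twoPts, not_or] at this
    exact this
  rcases x with _ | a | u
  · exact absurd rfl hx
  · rcases y with _ | c | w
    · exact absurd rfl hy
    · obtain ⟨g, hg, hgx⟩ := Mathieu.M22_exists_map (k := 1) (by norm_num)
        ⟨fun _ => a.1, Function.injective_of_subsingleton _⟩
        ⟨fun _ => c.1, Function.injective_of_subsingleton _⟩ (fun _ => hout a) (fun _ => hout c)
      exact ⟨⟨g, hg⟩, congrArg (some ∘ Sum.inl) (Subtype.ext (hgx 0))⟩
    · simp at hxy
  · rcases y with _ | c | w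
    · exact absurd rfl hy
    · simp at hxy
    · obtain ⟨s, hs, hs3⟩ := exists_subset_card_eq
        (show 3 ≤ u.1.card by rw [hexads_steiner.1 _ u.2]; norm_num)
      obtain ⟨t, ht, ht3⟩ := exists_subset_card_eq
        (show 3 ≤ w.1.card by rw [hexads_steiner.1 _ w.2]; norm_num)
      let i := (s.equivFinOfCardEq hs3).symm.toEmbedding.trans (Function.Embedding.subtype _)
      let j := (t.equivFinOfCardEq ht3).symm.toEmbedding.trans (Function.Embedding.subtype _)
      obtain ⟨g, hg, hgx⟩ := Mathieu.M22_exists_map le_rfl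
        (i.trans (Function.Embedding.subtype _)) (j.trans (Function.Embedding.subtype _))
        (fun k => hout _) (fun k => hout _)
      refine ⟨⟨g, hg⟩, congrArg (some ∘ Sum.inr) (Subtype.ext ?_)⟩
      set τ := restrictHom (Subgroup.inclusion M22_le_pairStab ⟨g, hg⟩) with hτ
      have himg : t ⊆ u.1.image τ.1 := fun z hz => by
        refine mem_image.2 ⟨i ((t.equivFinOfCardEq ht3) ⟨z, hz⟩), hs ?_, Subtype.ext ?_⟩
        · exact ((s.equivFinOfCardEq hs3).symm _).2
        · show g (i _).1 = z.1
          refine (hgx _).trans ?_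
          simp [j]
      exact (hexads_steiner.2 t ht3).unique
        ⟨(GolayUnique.mem_setSystemAut_iff.1 τ.2 _).2 u.2, himg⟩ ⟨w.2, ht⟩

/-- A group of order 100 has a characteristic subgroup of order 25. -/
theorem exists_char_twenty_five {N : Type*} [Group N] (hN : Nat.card N = 100) :
    ∃ P : Subgroup N, P.Characteristic ∧ Nat.card P = 25 := by
  haveI : Finite N := Nat.finite_of_card_ne_zero (by rw [hN]; norm_num)
  haveI : Fact (Nat.Prime 5) := ⟨by norm_num⟩
  obtain ⟨P, hP⟩ := Sylow.exists_subgroup_card_pow_prime (G := N) 5 (n := 2) (by rw [hN]; norm_num)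
  have hi : P.index = 4 := by
    have := P.card_mul_index
    rw [hP, hN] at this
    omega
  let S : Sylow 5 N := IsPGroup.toSylow (IsPGroup.of_card hP) (by rw [hi]; norm_num)
  have hS : (S : Subgroup N) = P := rfl
  haveI : Subsingleton (Sylow 5 N) := by
    have hdvd : Nat.card (Sylow 5 N) ∣ 4 := by rw [← hi, ← hS]; exact Sylow.card_dvd_index S
    have hmod : Nat.card (Sylow 5 N) % 5 = 1 := card_sylow_modEq_one 5 N
    have hle : Nat.card (Sylow 5 N) ≤ 4 := Nat.le_of_dvd (by norm_num) hdvd
    exact (Nat.card_eq_one_iff_unique.1 (by omega)).1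
  haveI hn : (S : Subgroup N).Normal := Sylow.normal_of_subsingleton S
  exact ⟨P, hS ▸ Sylow.characteristic_of_normal S hn, by rw [hP]; norm_num⟩

/-- Simplicity from a simple maximal subgroup of index 100. -/
theorem isSimple_of_maximal {G : Type*} [Group G] [Finite G] [Nontrivial G] (M : Subgroup G)
    [IsSimpleGroup M] (hMc : Nat.card M = 443520) (hG : Nat.card G = 44352000)
    (hmax : ∀ K : Subgroup G, M ≤ K → K = M ∨ K = ⊤)
    (hcore : ∀ K : Subgroup G, K.Normal → K ≤ M → K = ⊥) : IsSimpleGroup G := by
  have key : ∀ K : Subgroup G, K.Normal → K ≠ ⊥ → K.index ≤ 443520 := by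
    intro K hK hne
    haveI := hK
    rcases hmax (K ⊔ M) le_sup_right with h | h
    · exact absurd (hcore K hK (h ▸ le_sup_left)) hne
    have h1 : K.relIndex (M ⊔ K) = K.relIndex M := Subgroup.relIndex_sup_right M K
    rw [sup_comm, h, Subgroup.relIndex_top_right] at h1
    rw [h1, ← hMc]
    exact Nat.le_of_dvd Nat.card_pos (Subgroup.relIndex_dvd_card K M)
  refine ⟨fun N hN => ?_⟩
  by_cases hNbot : N = ⊥
  · exact Or.inl hNbot
  right
  rcases hmax (N ⊔ M) le_sup_right with h | h
  · exact absurd (hcore N hN (h ▸ le_sup_left)) hNbot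
  rcases (hN.subgroupOf M).eq_bot_or_eq_top with hb | ht
  · exfalso
    have h1 : N.relIndex (M ⊔ N) = N.relIndex M := Subgroup.relIndex_sup_right M N
    rw [sup_comm, h, Subgroup.relIndex_top_right, Subgroup.relIndex, hb, Subgroup.index_bot, hMc]
      at h1
    have h2 := N.card_mul_index
    rw [h1, hG] at h2
    obtain ⟨P, hP, hPc⟩ := exists_char_twenty_five (show Nat.card N = 100 by omega)
    have hP' : (P.map N.subtype).Normal := ConjAct.normal_of_characteristic_of_normal
    have hc : Nat.card (P.map N.subtype) = 25 := by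
      rw [← hPc]
      exact Nat.card_congr (Subgroup.equivMapOfInjective _ _ N.subtype_injective).toEquiv.symm
    have hne : P.map N.subtype ≠ ⊥ := fun e => by
      rw [e, Subgroup.card_bot] at hc
      norm_num at hc
    have h3 := key _ hP' hne
    have h4 := (P.map N.subtype).card_mul_index
    rw [hc, hG] at h4
    omega
  · have hMN' : M ≤ N := fun x hx =>
      (ht.symm ▸ Subgroup.mem_top _ : (⟨x, hx⟩ : M) ∈ N.subgroupOf M)
    rwa [sup_eq_left.2 hMN'] at h

theorem exists_simple :
    ∃ H : Subgroup (Cfsg.pointBlockGraph hexads ≃g Cfsg.pointBlockGraph hexads), Cfsg.IsHS H := by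
  classical
  haveI : Fintype hexads := Fintype.ofFinite _
  set sgn := Equiv.Perm.sign.comp (permHom (Cfsg.pointBlockGraph hexads)) with hsgn
  haveI : Finite (Cfsg.pointBlockGraph hexads ≃g Cfsg.pointBlockGraph hexads) :=
    Finite.of_injective _ (permHom_injective _)
  have hout : sgn outer = -1 := outer_sign
  have hidx : sgn.ker.index = 2 := by
    rw [Subgroup.index_ker, MonoidHom.range_eq_top.2 fun z => ?_, Subgroup.card_top]
    · rw [Nat.card_eq_fintype_card]; rfl
    · rcases Int.units_eq_one_or z with rfl | rfl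
      exacts [⟨1, map_one _⟩, ⟨outer, hout⟩]
  have hH : Nat.card sgn.ker = 44352000 := by
    have := sgn.ker.card_mul_index
    rw [hidx, card_graphAut card_pt22 hexads_steiner] at this
    omega
  refine ⟨sgn.ker, ?_, hH⟩
  haveI := Mathieu.isSimple_M22
  -- `M22` lies in the kernel
  have hM22 : ∀ g, m22Hom g ∈ sgn.ker := by
    set f := sgn.comp m22Hom with hf
    rcases f.normal_ker.eq_bot_or_eq_top with h | h
    · exfalso
      have hinj : Function.Injective f := (MonoidHom.ker_eq_bot_iff f).1 h
      have := Nat.card_le_card_of_injective f hinj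
      rw [Mathieu.card_M22, Nat.card_eq_fintype_card] at this
      exact absurd this (by decide)
    · intro g
      exact (h.symm ▸ Subgroup.mem_top g : g ∈ f.ker)
  set M := (fixExtra hexads).subgroupOf sgn.ker with hM
  let χ : Cfsg.Spor.M22 →* M :=
    { toFun := fun g => ⟨⟨m22Hom g, hM22 g⟩, rfl⟩
      map_one' := Subtype.ext (Subtype.ext (map_one m22Hom))
      map_mul' := fun g h => Subtype.ext (Subtype.ext (map_mul m22Hom g h)) }
  have hχ : Function.Injective χ := fun g h e =>
    m22Hom_injective (congrArg (fun z : M => z.1.1) e)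
  have hMcard : Nat.card M = 443520 := by
    refine le_antisymm ?_ (Mathieu.card_M22 ▸ Nat.card_le_card_of_injective χ hχ)
    have hd : Nat.card M ∣ 887040 := by
      rw [← card_fixExtra card_pt22 hexads_steiner]
      exact Subgroup.card_dvd_of_injective (f :=
        { toFun := fun z : M => (⟨z.1.1, z.2⟩ : fixExtra hexads)
          map_one' := rfl
          map_mul' := fun _ _ => rfl }) fun z z' e =>
        Subtype.ext (Subtype.ext (congrArg (fun y : fixExtra hexads => y.1) e))
    have hne : Nat.card M ≠ 887040 := fun e => by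
      let ι : M → fixExtra hexads := fun z => ⟨z.1.1, z.2⟩
      have hι : Function.Injective ι := fun z z' e =>
        Subtype.ext (Subtype.ext (congrArg (fun y : fixExtra hexads => y.1) e))
      obtain ⟨z, hz⟩ := (hι.bijective_of_nat_card_le
        (by rw [e, card_fixExtra card_pt22 hexads_steiner])).2 ⟨outer, rfl⟩
      have hz' : z.1.1 = outer := congrArg Subtype.val hz
      have h1 : sgn z.1.1 = 1 := z.1.2
      rw [hz'] at h1
      rw [hout] at h1
      exact absurd h1 (by decide)
    obtain ⟨c, hc⟩ := hd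
    rcases c with _ | _ | c
    · simp at hc
    · omega
    · nlinarith
  have hMidx : M.index = 100 := by
    have := M.card_mul_index
    rw [hMcard, hH] at this
    omega
  have hχs : Function.Surjective χ :=
    (hχ.bijective_of_nat_card_le (by rw [hMcard, Mathieu.card_M22])).2
  haveI : IsSimpleGroup M := MulEquiv.isSimpleGroup (MulEquiv.ofBijective χ ⟨hχ, hχs⟩).symm
  letI : MulAction sgn.ker (Option (Pt22 ⊕ hexads)) :=
    MulAction.compHom _ ((permHom _).comp sgn.ker.subtype)
  have hstab : MulAction.stabilizer sgn.ker (none : Option (Pt22 ⊕ hexads)) = M := rfl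
  have horb : ∀ x : Option (Pt22 ⊕ hexads), ∃ f : sgn.ker, f.1 none = x := by
    intro x
    have h1 := MulAction.index_stabilizer sgn.ker (none : Option (Pt22 ⊕ hexads))
    rw [hstab, hMidx, ← card_vertices card_pt22 hexads_steiner] at h1
    have h2 : MulAction.orbit sgn.ker (none : Option (Pt22 ⊕ hexads)) = Set.univ :=
      Set.eq_of_subset_of_ncard_le (Set.subset_univ _) (by rw [Set.ncard_univ, h1]) (Set.toFinite _)
    exact (h2.symm ▸ Set.mem_univ x : x ∈ MulAction.orbit sgn.ker _)
  -- a subgroup above the stabiliser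
  have hmax : ∀ K : Subgroup sgn.ker, M ≤ K → K = M ∨ K = ⊤ := by
    intro K hK
    set O := MulAction.orbit K (none : Option (Pt22 ⊕ hexads)) with hO
    have hOcard : O.ncard = M.relIndex K := by
      rw [hO, ← MulAction.index_stabilizer, Subgroup.relIndex, ← hstab]
      rfl
    have hOinv : ∀ g, ∀ x ∈ O, m22Hom g x ∈ O := by
      rintro g _ ⟨k, rfl⟩
      exact ⟨⟨(χ g).1, hK (χ g).2⟩ * k, rfl⟩
    have hPB : ∀ x ∈ O, x ≠ none → ∀ y, y ≠ none →
        (x.bind Sum.getLeft?).isSome = (y.bind Sum.getLeft?).isSome → y ∈ O := by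
      intro x hx hx0 y hy hxy
      obtain ⟨g, rfl⟩ := m22_orbits x y hx0 hy hxy
      exact hOinv g x hx
    have hdvd : O.ncard ∣ 100 := by
      rw [hOcard, ← hMidx]
      exact Subgroup.relIndex_dvd_index_of_le hK
    have hnone : (none : Option (Pt22 ⊕ hexads)) ∈ O := MulAction.mem_orbit_self _
    set P : Set (Option (Pt22 ⊕ hexads)) := Set.range (some ∘ Sum.inl) with hP
    set Q : Set (Option (Pt22 ⊕ hexads)) := Set.range (some ∘ Sum.inr) with hQ
    have hPc : P.ncard = 22 := by
      rw [hP, Set.ncard_range_of_injective ((Option.some_injective _).comp Sum.inl_injective),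
        Nat.card_eq_fintype_card, card_pt22]
    have hQc : Q.ncard = 77 := by
      rw [hQ, Set.ncard_range_of_injective ((Option.some_injective _).comp Sum.inr_injective)]
      have := card_vertices card_pt22 hexads_steiner
      rw [Nat.card_eq_fintype_card, Fintype.card_option, Fintype.card_sum, card_pt22] at this
      rw [Nat.card_eq_fintype_card]
      omega
    have hPQ : Disjoint P Q := by
      rw [Set.disjoint_left]; rintro _ ⟨a, rfl⟩ ⟨u, hu⟩; simp at hu
    have hOP : (∃ a, some (Sum.inl a) ∈ O) → P ⊆ O := by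
      rintro ⟨a, ha⟩ _ ⟨c, rfl⟩; exact hPB _ ha (by simp) _ (by simp) rfl
    have hOQ : (∃ u, some (Sum.inr u) ∈ O) → Q ⊆ O := by
      rintro ⟨a, ha⟩ _ ⟨c, rfl⟩; exact hPB _ ha (by simp) _ (by simp) rfl
    have hcases : O = {none} ∨ O.ncard = 100 := by
      by_cases h1 : ∃ a, some (Sum.inl a) ∈ O <;> by_cases h2 : ∃ u, some (Sum.inr u) ∈ O
      · refine Or.inr ?_
        rw [← card_vertices card_pt22 hexads_steiner, ← Set.ncard_univ]
        congr 1
        refine Set.eq_univ_of_forall fun x => ?_
        rcases x with _ | a | u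
        exacts [hnone, hOP h1 ⟨a, rfl⟩, hOQ h2 ⟨u, rfl⟩]
      · have hO' : O = insert none P := by
          refine Set.Subset.antisymm (fun x hx => ?_) (Set.insert_subset hnone (hOP h1))
          rcases x with _ | a | u
          exacts [Or.inl rfl, Or.inr ⟨a, rfl⟩, absurd ⟨u, hx⟩ h2]
        rw [hO', Set.ncard_insert_of_notMem (by simp [hP]), hPc] at hdvd
        norm_num at hdvd
      · have hO' : O = insert none Q := by
          refine Set.Subset.antisymm (fun x hx => ?_) (Set.insert_subset hnone (hOQ h2))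
          rcases x with _ | a | u
          exacts [Or.inl rfl, absurd ⟨a, hx⟩ h1, Or.inr ⟨u, rfl⟩]
        rw [hO', Set.ncard_insert_of_notMem (by simp [hQ]), hQc] at hdvd
        norm_num at hdvd
      · refine Or.inl (Set.Subset.antisymm (fun x hx => ?_) (Set.singleton_subset_iff.2 hnone))
        rcases x with _ | a | u
        exacts [rfl, absurd ⟨a, hx⟩ h1, absurd ⟨u, hx⟩ h2]
    rcases hcases with h | h
    · refine Or.inl (le_antisymm (fun k hk => ?_) hK)
      have : k • (none : Option (Pt22 ⊕ hexads)) ∈ O := ⟨⟨k, hk⟩, rfl⟩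
      rw [h, Set.mem_singleton_iff] at this
      exact this
    · refine Or.inr (Subgroup.index_eq_one.1 ?_)
      have hm := Subgroup.relIndex_mul_index hK
      rw [← hOcard, h, hMidx] at hm
      omega
  haveI : Nontrivial sgn.ker := by
    rw [← Finite.one_lt_card_iff_nontrivial, hH]; norm_num
  refine isSimple_of_maximal M (by rw [hMcard]) hH hmax fun K hKn hKM => ?_
  rw [Subgroup.eq_bot_iff_forall]
  intro k hk
  refine Subtype.ext (RelIso.ext fun x => ?_)
  obtain ⟨f, rfl⟩ := horb x
  have h' : f⁻¹.1 (k.1 (f.1 none)) = none := by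
    have : (f⁻¹ * k * (f⁻¹)⁻¹ : sgn.ker) ∈ M := hKM (hKn.conj_mem k hk f⁻¹)
    rw [inv_inv] at this
    exact this
  show k.1 (f.1 none) = f.1 none
  have := congrArg f.1 h'
  rwa [show f.1 (f⁻¹.1 (k.1 (f.1 none))) = k.1 (f.1 none) from f.1.apply_symm_apply _] at this

theorem exists_simple_subgroup {α : Type*} [Fintype α] {B : Set (Finset α)}
    (hα : Fintype.card α = 22) (hB : Cfsg.IsSteinerSystem 3 6 B) :
    ∃ H : Subgroup (Cfsg.pointBlockGraph B ≃g Cfsg.pointBlockGraph B), Cfsg.IsHS H := by
  classical
  obtain ⟨e, he⟩ := exists_iso_22 hα card_pt22 hB hexads_steiner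
  set Φ := mapIso e he with hΦ
  let c : (Cfsg.pointBlockGraph hexads ≃g Cfsg.pointBlockGraph hexads) ≃*
      (Cfsg.pointBlockGraph B ≃g Cfsg.pointBlockGraph B) :=
    { toFun := fun f => (Φ.trans f).trans Φ.symm
      invFun := fun f => (Φ.symm.trans f).trans Φ
      left_inv := fun f => RelIso.ext fun x => by simp
      right_inv := fun f => RelIso.ext fun x => by simp
      map_mul' := fun f g => RelIso.ext fun x => by simp }
  obtain ⟨H, hs, hH⟩ := exists_simple
  refine ⟨H.map c.toMonoidHom, ?_, ?_⟩
  · exact MulEquiv.isSimpleGroup (c.subgroupMap H).symm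
  · rw [← hH]
    exact Nat.card_congr (c.subgroupMap H).symm.toEquiv

/-- Strongly regular graphs with parameters (100,22,0,6) are isomorphic. -/
theorem exists_srg_iso {V W : Type*} [Fintype V] [Fintype W] {G : SimpleGraph V} {H : SimpleGraph W}
    [DecidableRel G.Adj] [DecidableRel H.Adj] (hG : G.IsSRGWith 100 22 0 6)
    (hH : H.IsSRGWith 100 22 0 6) : Nonempty (G ≃g H) := by
  classical
  obtain ⟨v⟩ : Nonempty V := Fintype.card_pos_iff.1 (by rw [hG.card]; norm_num)
  obtain ⟨w⟩ : Nonempty W := Fintype.card_pos_iff.1 (by rw [hH.card]; norm_num)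
  obtain ⟨φ, -⟩ := exists_pbg_iso hG v
  obtain ⟨ψ, -⟩ := exists_pbg_iso hH w
  obtain ⟨e, he⟩ := exists_iso_22 (card_Nbr hG v) (card_Nbr hH w) (nbrBlock_steiner hG v)
    (nbrBlock_steiner hH w)
  exact ⟨(φ.symm.trans (mapIso e he)).trans ψ⟩

end Cfsg.Agent.Hexad22
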