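import Cfsg.Agent.Lib.Steiner.PlaneFourModel

/-!
The 168 hyperovals of the model plane of order 4 and the 56 of them meeting the distinguished one in
an even number of points.
-/

set_option autoImplicit false

namespace Cfsg.Agent.Hexad22

open Finset PlaneFour

/-- The set of model points with mask `m`. -/
def pts (m : ℕ) : Finset ModelPt :=
  univ.filter fun x => m.testBit (finSumFinEquiv x : Fin (6 + 15)).val

/-- Masks of the secants. -/
def secMasks : List ℕ :=
  [451, 3589, 28681, 229393, 1835041, 299014, 590346, 1057810, 149538, 1179724, 540820, 74020,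
   264472, 33960, 4720]

/-- Their pairs of letters. -/
def secPairs : List (Fin 6 × Fin 6) :=
  [(0, 1), (0, 2), (0, 3), (0, 4), (0, 5), (1, 2), (1, 3), (1, 4), (1, 5), (2, 3), (2, 4), (2, 5),
   (3, 4), (3, 5), (4, 5)]

/-- Masks of the totals. -/
def totMasks : List ℕ := [345152, 567360, 402048, 1120384, 1098496, 660736]

/-- Masks of the hyperovals. -/
def hypMasks : List ℕ :=
  [
   63, 663559, 1130503, 394251, 1083403, 279059, 530451, 41507, 70691, 1184259, 574467, 337923,
   327821, 557325, 270421, 1052949, 49253, 135333, 593989, 1089669, 409861, 525401, 1049241, 67689,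
   131881, 295497, 657545, 1115401, 10417, 17713, 1067089, 267409, 533265, 140385, 82593, 39201,
   1122881, 672321, 1086529, 399425, 561793, 599169, 1197185, 313473, 332545, 304385, 1190145,
   608513, 10382, 17678, 67670, 131862, 525414, 1049254, 25158, 197766, 1575174, 49242, 135322,
   270442, 1052970, 7242, 1327242, 172298, 327858, 557362, 917586, 35474, 86290, 1146978, 536738,
   263970, 165442, 1313346, 208962, 1593410, 22146, 789634, 123010, 1736834, 15106, 101634, 811266,
   1507586, 41500, 70684, 279084, 530476, 5004, 795660, 116748, 394292, 1083444, 34132, 1376788,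
   145428, 264420, 688676, 1070116, 99012, 13508, 787268, 22852, 1312132, 166276, 1585668, 217604,
   189444, 1672196, 1337348, 985092, 663608, 1130552, 73944, 149016, 1609752, 541032, 1059368,
   462888, 19144, 790728, 10056, 102728, 1581448, 213384, 1316360, 170504, 207880, 1592328,
   1417224, 966664, 1180080, 592944, 319536, 134352, 1343696, 155984, 1638736, 67472, 45456,
   820752, 92688, 1706512, 56336, 864272, 1462288, 1073376, 721120, 1052000, 426336, 527264,
   283040, 550432, 1246752, 363040, 277536, 1224736, 643104, 1574592, 184512, 199488, 1323328,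
   28032, 885120, 112128, 809472, 1477632, 1794048]

/-- Number of bits. -/
def bits (m : ℕ) : ℕ := ((List.range 21).filter fun i => m.testBit i).length

theorem secant_eq : ∀ q ∈ List.zip secMasks secPairs,
    q.2.1 ≠ q.2.2 ∧ pts q.1 = secant q.2.1 q.2.2 := by decide +kernel

theorem tot_eq : ∀ m ∈ totMasks, (pts m).card = 5 ∧ (∀ i : Fin 6, Sum.inl i ∉ pts m) ∧
    ∀ j k : Fin 15, Sum.inr j ∈ pts m → Sum.inr k ∈ pts m → k ≠ j → Apart j k := by decide +kernel

theorem lines_nodup : (secMasks ++ totMasks).Nodup := by decide +kernel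

theorem hyp_nodup : hypMasks.Nodup := by decide +kernel

theorem masks_lt : (∀ m ∈ secMasks ++ totMasks, m < 2 ^ 21) ∧ ∀ m ∈ hypMasks, m < 2 ^ 21 := by
  decide +kernel

theorem hyp_check : ∀ m ∈ hypMasks, bits m = 6 ∧ ∀ l ∈ secMasks ++ totMasks, bits (l &&& m) ≤ 2 := by
  decide +kernel

theorem hyp_even : (hypMasks.filter fun m => bits (m &&& 63) % 2 == 0).length = 56 := by
  decide +kernel

end Cfsg.Agent.Hexad22
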