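import Cfsg.Agent.Lib.Hexad22.GraphAut
import Cfsg.Agent.Lib.Mathieu.IndexSub.Points
import Cfsg.Agent.Lib.Leech.HSGroup
import Cfsg.Prelude.Def_Spor_Conway

/-!
A rank three group on 100 points with point stabiliser of order 443520 and subdegrees 22, 77 is the
simple group of index two in the automorphism group of the graph with parameters (100, 22, 0, 6).
-/

set_option autoImplicit false
set_option maxRecDepth 20000

namespace Cfsg.Agent.Hexad22

open Finset MulAction

variable {G : Type*} [Group G] {Ω : Type*} [Fintype Ω] [DecidableEq Ω] [MulAction G Ω]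

/-- The pairs in the suborbit of `(a, b)`. -/
def orbAdj (G : Type*) [Group G] [MulAction G Ω] (a b x y : Ω) : Prop := ∃ g : G, g • a = x ∧ g • b = y

theorem orbAdj_smul (a b : Ω) (k : G) (x y : Ω) :
    orbAdj G a b (k • x) (k • y) ↔ orbAdj G a b x y := by
  constructor
  · rintro ⟨g, h1, h2⟩
    exact ⟨k⁻¹ * g, by rw [mul_smul, h1, inv_smul_smul], by rw [mul_smul, h2, inv_smul_smul]⟩
  · rintro ⟨g, h1, h2⟩
    exact ⟨k * g, by rw [mul_smul, h1], by rw [mul_smul, h2]⟩

theorem orbAdj_iff_mem_orbit (a b y : Ω) : orbAdj G a b a y ↔ y ∈ orbit (stabilizer G a) b := by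
  constructor
  · rintro ⟨g, h1, h2⟩; exact ⟨⟨g, h1⟩, h2⟩
  · rintro ⟨⟨g, h1⟩, h2⟩; exact ⟨g, h1, h2⟩

theorem card_filter_smul (P : Ω → Prop) (Q : Ω → Prop) [DecidablePred P] [DecidablePred Q] (g : G)
    (h : ∀ z, Q (g • z) ↔ P z) : (univ.filter Q).card = (univ.filter P).card := by
  refine (card_bij (fun z _ => g • z) (fun z hz => ?_) (fun _ _ _ _ e => MulAction.injective g e)
    (fun z hz => ⟨g⁻¹ • z, ?_, smul_inv_smul g z⟩)).symm
  · exact mem_filter.2 ⟨mem_univ _, (h z).2 (mem_filter.1 hz).2⟩
  · exact mem_filter.2 ⟨mem_univ _, (h _).1 (by rw [smul_inv_smul]; exact (mem_filter.1 hz).2)⟩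

/-- The suborbit graph has parameters (100, 22, 0, 6). -/
theorem exists_srg (hΩ : Fintype.card Ω = 100) [IsPretransitive G Ω] (a b c : Ω)
    (hb : (orbit (stabilizer G a) b).ncard = 22) (hc : (orbit (stabilizer G a) c).ncard = 77) :
    ∃ (Γ : SimpleGraph Ω) (_ : DecidableRel Γ.Adj), Γ.IsSRGWith 100 22 0 6 ∧
      ∀ (g : G) (x y : Ω), Γ.Adj (g • x) (g • y) ↔ Γ.Adj x y := by
  classical
  set A := orbAdj G a b with hA
  have hab : a ≠ b := by
    rintro rfl
    have : orbit (stabilizer G a) a = {a} := by
      ext y
      refine ⟨?_, fun h => by rw [Set.mem_singleton_iff.1 h]; exact mem_orbit_self a⟩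
      rintro ⟨⟨g, hg⟩, rfl⟩; exact hg
    rw [this, Set.ncard_singleton] at hb
    norm_num at hb
  have hirr : ∀ x, ¬ A x x := fun x ⟨g, h1, h2⟩ => hab (MulAction.injective g (h1.trans h2.symm))
  have hout : ∀ x, (univ.filter fun y => A x y).card = 22 := by
    intro x
    obtain ⟨g, rfl⟩ := exists_smul_eq G a x
    rw [card_filter_smul (fun y => A a y) (fun y => A (g • a) y) g (fun y => orbAdj_smul a b g a y),
      ← hb, ← Set.ncard_coe_finset]
    congr 1
    ext y
    simp only [coe_filter, mem_univ, true_and, Set.mem_ofPred_eq]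
    exact orbAdj_iff_mem_orbit a b y
  have hin : (univ.filter fun y => A y a).card = 22 := by
    have heq : ∀ x ∈ (univ : Finset Ω),
        ((univ : Finset Ω).bipartiteBelow A x).card = (univ.filter fun y => A y a).card := by
      intro x _
      obtain ⟨g, rfl⟩ := exists_smul_eq G a x
      exact card_filter_smul (fun y => A y a) (fun y => A y (g • a)) g fun y => orbAdj_smul a b g y a
    have h := sum_card_bipartiteAbove_eq_sum_card_bipartiteBelow A (s := univ) (t := univ)
    have hout' : ∀ x ∈ (univ : Finset Ω), ((univ : Finset Ω).bipartiteAbove A x).card = 22 :=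
      fun x _ => hout x
    rw [sum_const_nat hout',
      sum_const_nat heq, card_univ, hΩ] at h
    omega
  have hcover : ∀ y, y = a ∨ y ∈ orbit (stabilizer G a) b ∨ y ∈ orbit (stabilizer G a) c := by
    have hd : Disjoint (orbit (stabilizer G a) b) (orbit (stabilizer G a) c) := by
      rw [Set.disjoint_left]
      intro y h1 h2
      rw [← orbit_eq_iff] at h1 h2
      rw [← h1, h2] at hb
      omega
    have ha : a ∉ orbit (stabilizer G a) b ∪ orbit (stabilizer G a) c := by
      have key : ∀ z, a ∈ orbit (stabilizer G a) z → z = a := by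
        rintro z ⟨⟨g, hg⟩, hz⟩
        exact MulAction.injective g ((show g • z = a from hz).trans hg.symm)
      rintro (h | h)
      · exact hab (key b h).symm
      · rw [key c h] at hc
        have : orbit (stabilizer G a) a = {a} := by
          ext y
          refine ⟨?_, fun h => by rw [Set.mem_singleton_iff.1 h]; exact mem_orbit_self a⟩
          rintro ⟨⟨g, hg⟩, rfl⟩; exact hg
        rw [this, Set.ncard_singleton] at hc
        norm_num at hc
    have huniv : insert a (orbit (stabilizer G a) b ∪ orbit (stabilizer G a) c) = Set.univ := by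
      refine Set.eq_of_subset_of_ncard_le (Set.subset_univ _) ?_ (Set.toFinite _)
      rw [Set.ncard_insert_of_notMem ha (Set.toFinite _),
        Set.ncard_union_eq hd (Set.toFinite _) (Set.toFinite _), hb, hc, Set.ncard_univ,
        Nat.card_eq_fintype_card, hΩ]
    intro y
    exact Set.mem_insert_iff.1 (huniv.symm ▸ Set.mem_univ y)
  have hba : A b a := by
    have hsub : (univ.filter fun y => A y a) ⊆ univ.filter fun y => A a y := by
      intro y hy
      simp only [mem_filter, mem_univ, true_and] at hy ⊢
      rcases hcover y with rfl | h | h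
      · exact absurd hy (hirr y)
      · exact (orbAdj_iff_mem_orbit a b y).2 h
      · exfalso
        have hle : orbit (stabilizer G a) c ⊆ ↑(univ.filter fun y => A y a) := by
          intro z hz
          rw [← orbit_eq_iff.2 h] at hz
          obtain ⟨⟨g, hg⟩, rfl⟩ := hz
          rw [coe_filter]
          refine ⟨mem_univ _, ?_⟩
          have := (orbAdj_smul (G := G) a b g y a).2 hy
          rwa [show g • a = a from hg] at this
        have := Set.ncard_le_ncard hle (Set.toFinite _)
        rw [Set.ncard_coe_finset, hin, hc] at this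
        omega
    have heq := eq_of_subset_of_card_le hsub (by rw [hout a, hin])
    have hb' : b ∈ univ.filter fun y => A a y := by
      simp only [mem_filter, mem_univ, true_and]
      exact (orbAdj_iff_mem_orbit a b b).2 (mem_orbit_self b)
    rw [← heq] at hb'
    exact (mem_filter.1 hb').2
  have hsymm : ∀ x y, A x y → A y x := by
    rintro x y ⟨g, rfl, rfl⟩
    exact (orbAdj_smul a b g b a).2 hba
  let Γ : SimpleGraph Ω := { Adj := A, symm := ⟨hsymm⟩, loopless := ⟨hirr⟩ }
  set cn : Ω → Ω → ℕ := fun x y => (univ.filter fun z => A x z ∧ A y z).card with hcn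
  have hcns : ∀ (g : G) x y, cn (g • x) (g • y) = cn x y := fun g x y =>
    card_filter_smul (fun z => A x z ∧ A y z) (fun z => A (g • x) z ∧ A (g • y) z) g fun z =>
      and_congr (orbAdj_smul a b g x z) (orbAdj_smul a b g y z)
  have hedge : ∀ x y, A x y → cn x y = cn a b := by
    rintro x y ⟨g, rfl, rfl⟩; exact hcns g a b
  have hnon : ∀ x y, x ≠ y → ¬ A x y → cn x y = cn a c := by
    intro x y hne hA'
    obtain ⟨g, rfl⟩ := exists_smul_eq G a x
    obtain ⟨z, rfl⟩ : ∃ z, g • z = y := ⟨g⁻¹ • y, smul_inv_smul g y⟩
    rcases hcover z with rfl | h | ⟨⟨k, hk⟩, rfl⟩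
    · exact absurd rfl hne
    · exact absurd ((orbAdj_smul a b g a z).2 ((orbAdj_iff_mem_orbit a b z).2 h)) hA'
    · have hk' : k • a = a := hk
      show cn (g • a) (g • (k • c)) = _
      conv_lhs => rw [← hk', ← mul_smul, ← mul_smul]
      exact hcns (g * k) a c
  have hsrg : Γ.IsSRGWith 100 22 (cn a b) (cn a c) := by
    refine ⟨hΩ, fun x => ?_, fun x y h => ?_, fun x y hne h => ?_⟩
    · rw [← SimpleGraph.card_neighborFinset_eq_degree, ← hout x]
      congr 1
      ext y; simp [Γ]
    all_goals rw [Fintype.card_subtype]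
    · rw [← hedge x y h]
      simp only [hcn]
      congr 1
    · rw [← hnon x y hne h]
      simp only [hcn]
      congr 1
  have hp := SimpleGraph.IsSRGWith.param_eq Γ hsrg (by norm_num)
  have hl : cn a b ≤ 21 := by
    have : (univ.filter fun z => A a z ∧ A b z) ⊆ (univ.filter fun z => A a z).erase b := by
      intro z hz
      simp only [mem_filter, mem_univ, true_and, mem_erase] at hz ⊢
      exact ⟨fun e => hirr b (e ▸ hz.2), hz.1⟩
    refine (card_le_card this).trans ?_
    rw [card_erase_of_mem (by simpa using (orbAdj_iff_mem_orbit a b b).2 (mem_orbit_self b)), hout a]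
  -- triangles are counted in threes
  have h3 : 3 ∣ 100 * 22 * cn a b := by
    set X : Finset (Ω × Ω × Ω) := univ.filter fun t => A t.1 t.2.1 ∧ A t.2.1 t.2.2 ∧ A t.1 t.2.2 with hX
    let σ : Equiv.Perm (Ω × Ω × Ω) :=
      { toFun := fun t => (t.2.1, t.2.2, t.1)
        invFun := fun t => (t.2.2, t.1, t.2.1)
        left_inv := fun _ => rfl
        right_inv := fun _ => rfl }
    have hσ : σ ^ 3 = 1 := Equiv.ext fun t => rfl
    have hinv : ∀ t, σ t ∈ X ↔ t ∈ X := by
      rintro ⟨x, y, z⟩
      simp only [hX, mem_filter, mem_univ, true_and]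
      show A y z ∧ A z x ∧ A y x ↔ _
      exact ⟨fun ⟨h1, h2, h3⟩ => ⟨hsymm _ _ h3, h1, hsymm _ _ h2⟩,
        fun ⟨h1, h2, h3⟩ => ⟨h2, hsymm _ _ h3, hsymm _ _ h1⟩⟩
    have hm := Mathieu.IndexSub.card_filter_fix_modEq Nat.prime_three hσ hinv
    have h0 : (X.filter fun t => σ t = t) = ∅ := by
      refine filter_eq_empty_iff.2 ?_
      rintro ⟨x, y, z⟩ ht e
      simp only [hX, mem_filter, mem_univ, true_and] at ht
      have e1 : y = x := congrArg Prod.fst (show (y, z, x) = (x, y, z) from e)
      exact hirr x (e1 ▸ ht.1)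
    have hcard : X.card = 100 * 22 * cn a b := by
      have : ∀ x y, (∑ z, if A x y ∧ A y z ∧ A x z then 1 else 0) = if A x y then cn a b else 0 := by
        intro x y
        by_cases h : A x y
        · rw [if_pos h, ← hedge x y h, sum_boole]
          simp only [hcn, Nat.cast_id, h, true_and]
          congr 1
          ext z
          simp [and_comm]
        · simp [h]
      rw [hX, card_filter, Fintype.sum_prod_type]
      simp only [Fintype.sum_prod_type, this]
      rw [sum_const_nat (m := 22 * cn a b), card_univ, hΩ]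
      · ring
      · intro x _
        rw [← sum_filter, sum_const, hout x, smul_eq_mul]
    rw [h0, card_empty, hcard] at hm
    exact Nat.dvd_of_mod_eq_zero hm.symm
  have h21 : cn a b ≠ 21 := by
    intro h
    set C : Ω → Finset Ω := fun x => insert x (univ.filter fun y => A x y) with hC
    have hCc : ∀ x, (C x).card = 23 := fun x => by
      rw [hC, card_insert_of_notMem (by simp [hirr x]), hout x]
    have hblock : ∀ x, ∀ y ∈ C x, C y = C x := by
      intro x y hy
      rw [hC, mem_insert, mem_filter] at hy
      rcases hy with rfl | ⟨-, hy⟩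
      · rfl
      refine eq_of_subset_of_card_le (fun z hz => ?_) (by rw [hCc, hCc])
      have hfull : (univ.filter fun z => A x z ∧ A y z) = (univ.filter fun z => A y z).erase x := by
        refine eq_of_subset_of_card_le (fun z hz => ?_) ?_
        · simp only [mem_filter, mem_univ, true_and, mem_erase] at hz ⊢
          exact ⟨fun e => hirr x (e ▸ hz.1), hz.2⟩
        · rw [card_erase_of_mem (by simp [hsymm _ _ hy]), hout y]
          exact (le_of_eq ((hedge x y hy).trans h).symm)
      simp only [hC, mem_insert, mem_filter, mem_univ, true_and] at hz ⊢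
      rcases hz with rfl | hz
      · exact Or.inr hy
      by_cases hzx : z = x
      · exact Or.inl hzx
      · have : z ∈ (univ.filter fun z => A y z).erase x := by simp [hzx, hz]
        rw [← hfull] at this
        exact Or.inr (mem_filter.1 this).2.1
    have hdisj : ((univ : Finset Ω).image C : Set (Finset Ω)).PairwiseDisjoint id := by
      intro P hP Q hQ hne
      obtain ⟨p, -, rfl⟩ := mem_image.1 hP
      obtain ⟨q, -, rfl⟩ := mem_image.1 hQ
      exact disjoint_left.2 fun z hz hz' => hne ((hblock p z hz).symm.trans (hblock q z hz'))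
    have hu : ((univ : Finset Ω).image C).biUnion id = univ := eq_univ_of_forall fun z => by
      rw [mem_biUnion]; exact ⟨C z, mem_image_of_mem C (mem_univ z), mem_insert_self _ _⟩
    have hc' := congrArg card hu
    rw [card_biUnion hdisj, sum_const_nat (m := 23) (fun P hP => by
      obtain ⟨p, -, rfl⟩ := mem_image.1 hP
      exact hCc p), card_univ, hΩ] at hc'
    omega
  have hzero : cn a b = 0 := by
    revert hp h3 hl h21
    generalize cn a b = l
    generalize cn a c = m
    intros
    omega
  have hmu : cn a c = 6 := by rw [hzero] at hp; omega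
  rw [hzero, hmu] at hsrg
  exact ⟨Γ, inferInstance, hsrg, fun g x y => orbAdj_smul a b g x y⟩

end Cfsg.Agent.Hexad22
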